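import Cfsg.Agent.Lib.Small.GTwoDegree.Ctx

/-!
The count over both maximal parabolic subgroups when the characteristic is not three.
-/

set_option autoImplicit false
set_option linter.unusedSectionVars false

namespace Cfsg.Agent.Small.GTwoDegree

open Cfsg.Lie Cfsg.Agent.Lie Module Finset

variable {F : Type*} [Field F] [Fintype F] {V : Type*} [AddCommGroup V] [Module ℂ V] [FiniteDimensional ℂ V]
variable (ρ : Representation ℂ (Gr F) V)

local notation "q" => Fintype.card F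

/-- The projection on the vectors fixed by the pair of long root groups 10, 11. -/
noncomputable def PP : Module.End ℂ V := Ek ρ 10 0 * Ek ρ 11 0

/-- The projection on the vectors fixed by 6, 10, 11. -/
noncomputable def P0 : Module.End ℂ V := Ek ρ 6 0 * PP ρ

theorem EF_idem (ε φ : F) : Ek ρ 10 ε * Ek ρ 11 φ * (Ek ρ 10 ε * Ek ρ 11 φ) = Ek ρ 10 ε * Ek ρ 11 φ :=
  idem_mul (E_idem' ρ 10 ε) (E_idem' ρ 11 φ) (E_comm ρ (by decide) _ _)

theorem PP_idem : PP ρ * PP ρ = PP ρ := EF_idem ρ 0 0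

theorem X10_PP (t : F) : X ρ 10 t * PP ρ = PP ρ := by rw [PP, ← mul_assoc, X_E]

theorem X11_PP (t : F) : X ρ 11 t * PP ρ = PP ρ := by
  rw [PP, (E_comm ρ (r := 10) (s := 11) (by decide) 0 0).eq, ← mul_assoc, X_E]

theorem X_EF {s : ℕ} (h1 : (s, 10) ∈ cpairs) (h2 : (s, 11) ∈ cpairs) (t ε φ : F) :
    Commute (X ρ s t) (Ek ρ 10 ε * Ek ρ 11 φ) :=
  (XE_comm ρ h1 t ε).mul_right (XE_comm ρ h2 t φ)

theorem X6_EF0 (t ε : F) : Commute (X ρ 6 t) (Ek ρ 10 ε * Ek ρ 11 0) := by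
  have h := E_shift (g := X ρ 6 t) (R := X ρ 10) (P := Ek ρ 11 0) (c := 0) (fun x => by
    rw [zero_mul, AddChar.map_zero_eq_one, one_smul, ← mul_assoc,
      show X ρ 6 t * X ρ 10 x = X ρ 10 x * X ρ 11 (t * x) * X ρ 6 t from by
        rw [X, X, X, ← map_mul, be, map_mul, map_mul],
      mul_assoc (X ρ 10 x * X ρ 11 (t * x)), (XE_comm ρ (r := 6) (s := 11) (by decide) t 0).eq,
      ← mul_assoc, mul_assoc (X ρ 10 x), X_E]) ε
  rw [sub_zero] at h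
  exact h

theorem X6_PP (t : F) : Commute (X ρ 6 t) (PP ρ) := X6_EF0 ρ t 0

theorem E6_PP (a : F) : Commute (Ek ρ 6 a) (PP ρ) :=
  (E_commute (fun t => (X6_PP ρ t).symm) a).symm

theorem nn1_EF (ε φ : F) : ∃ σ τ : F, σ ≠ 0 ∧ τ ≠ 0 ∧
    ρ (nn 1) * (Ek ρ 10 ε * Ek ρ 11 φ) = Ek ρ 10 (φ / τ) * Ek ρ 11 (ε / σ) * ρ (nn 1) := by
  obtain ⟨σ, hσ, h1⟩ := nn_E ρ 1 (s := 10) (s' := 11) (by decide +kernel) (by norm_num)
  obtain ⟨τ, hτ, h2⟩ := nn_E ρ 1 (s := 11) (s' := 10) (by decide +kernel) (by norm_num)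
  refine ⟨σ, τ, hσ, hτ, ?_⟩
  rw [move_mul (h1 ε) (h2 φ), (E_comm ρ (r := 11) (s := 10) (by decide) _ _).eq]

theorem nn1_PP : ρ (nn 1) * PP ρ = PP ρ * ρ (nn 1) := by
  obtain ⟨σ, τ, -, -, h⟩ := nn1_EF ρ 0 0
  rwa [zero_div, zero_div] at h

theorem tor_PP (κ lam : Fˣ) : ρ (tor κ lam) * PP ρ = PP ρ * ρ (tor κ lam) :=
  move_mul (tor_E0 ρ κ lam (by decide)) (tor_E0 ρ κ lam (by decide))

theorem nn0_P0 : ρ (nn 0) * P0 ρ = P0 ρ * ρ (nn 0) := by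
  have h1 := nn_E0 ρ 0 (s := 6) (s' := 10) (by decide +kernel) (by norm_num)
  have h2 := nn_E0 ρ 0 (s := 10) (s' := 6) (by decide +kernel) (by norm_num)
  have h3 := nn_E0 ρ 0 (s := 11) (s' := 11) (by decide +kernel) (by norm_num)
  rw [P0, PP, move_mul h1 (move_mul h2 h3)]
  congr 1
  rw [(E_comm ρ (r := 6) (s := 11) (by decide) 0 0).eq, ← mul_assoc]
  exact (E6_PP ρ 0).eq.symm

theorem P0_idem : P0 ρ * P0 ρ = P0 ρ := idem_mul (E_idem' ρ 6 0) (PP_idem ρ) (E6_PP ρ 0)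

variable {ρ} (h : Good ρ) (h3 : (3 : F) ≠ 0)

/-- The multiplicity of a character on 9, 10, 11. -/
noncomputable def n3 (ρ : Representation ℂ (Gr F) V) (δ ε φ : F) : ℕ :=
  rk (Ek ρ 9 δ * (Ek ρ 10 ε * Ek ρ 11 φ))

theorem A_idem (δ ε φ : F) : Ek ρ 9 δ * (Ek ρ 10 ε * Ek ρ 11 φ) *
    (Ek ρ 9 δ * (Ek ρ 10 ε * Ek ρ 11 φ)) = Ek ρ 9 δ * (Ek ρ 10 ε * Ek ρ 11 φ) :=
  idem_mul (E_idem' ρ 9 δ) (EF_idem ρ ε φ)
    ((E_comm ρ (by decide) δ ε).mul_right (E_comm ρ (by decide) δ φ))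

theorem shift_e (δ ε φ u : F) : n3 ρ δ ε φ = n3 ρ δ (ε - φ * u) φ := by
  have hc : ∀ (δ ε : F), Ek ρ 9 δ * (Ek ρ 10 ε * Ek ρ 11 φ) = Ek ρ 10 ε * (Ek ρ 9 δ * Ek ρ 11 φ) :=
    fun δ ε => by rw [← mul_assoc, ← mul_assoc, (E_comm ρ (r := 9) (s := 10) (by decide) δ ε).eq]
  have hg : Commute (X ρ 6 u) (Ek ρ 9 δ * Ek ρ 11 φ) :=
    (XE_comm ρ (by decide) u δ).mul_right (XE_comm ρ (by decide) u φ)
  refine rk_move ρ (xs 6 u) (A_idem δ ε φ) ?_
  rw [hc, hc]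
  refine E_shift (c := φ * u) (fun t => ?_) ε
  show X ρ 6 u * _ = _
  rw [← mul_assoc, show X ρ 6 u * X ρ 10 t = X ρ 10 t * X ρ 11 (u * t) * X ρ 6 u from by
      rw [X, X, X, ← map_mul, be, map_mul, map_mul],
    mul_assoc (X ρ 10 t * X ρ 11 (u * t)), hg.eq, ← mul_assoc, mul_assoc (X ρ 10 t),
    ← mul_assoc (X ρ 11 (u * t)), (XE_comm ρ (r := 11) (s := 9) (by decide) _ δ).eq, mul_assoc (Ek ρ 9 δ),
    show X ρ 11 (u * t) * Ek ρ 11 φ = psi F (φ * (u * t)) • Ek ρ 11 φ from (isRep ρ 11).mul_E _ _]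
  simp only [mul_smul_comm, smul_mul_assoc, mul_assoc]
  rfl

theorem shift_d (δ ε φ u : F) : n3 ρ δ ε φ = n3 ρ (δ - 3 * φ * u) ε φ := by
  have hg : Commute (X ρ 8 u) (Ek ρ 10 ε * Ek ρ 11 φ) := X_EF ρ (by decide) (by decide) u ε φ
  refine rk_move ρ (xs 8 u) (A_idem δ ε φ) ?_
  refine E_shift (c := 3 * φ * u) (fun t => ?_) δ
  show X ρ 8 u * _ = _
  rw [← mul_assoc, show X ρ 8 u * X ρ 9 t = X ρ 9 t * X ρ 11 (3 * u * t) * X ρ 8 u from by
      rw [X, X, X, ← map_mul, cd, map_mul, map_mul],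
    mul_assoc (X ρ 9 t * X ρ 11 (3 * u * t)), hg.eq, ← mul_assoc, mul_assoc (X ρ 9 t),
    ← mul_assoc (X ρ 11 (3 * u * t)), (XE_comm ρ (r := 11) (s := 10) (by decide) _ ε).eq,
    mul_assoc (Ek ρ 10 ε),
    show X ρ 11 (3 * u * t) * Ek ρ 11 φ = psi F (φ * (3 * u * t)) • Ek ρ 11 φ from (isRep ρ 11).mul_E _ _]
  simp only [mul_smul_comm, smul_mul_assoc, mul_assoc]
  congr 2
  ring

theorem shift_d0 (δ ε u : F) : n3 ρ δ ε 0 = n3 ρ (δ - 3 * ε * u) ε 0 := by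
  have hg : Commute (X ρ 7 u) (Ek ρ 10 ε * Ek ρ 11 0) := X_EF ρ (by decide) (by decide) u ε 0
  refine rk_move ρ (xs 7 u) (A_idem δ ε 0) ?_
  refine E_shift (c := 3 * ε * u) (fun t => ?_) δ
  show X ρ 7 u * _ = _
  rw [← mul_assoc, show X ρ 7 u * X ρ 9 t = X ρ 9 t * X ρ 10 (3 * u * t) * X ρ 7 u from by
      rw [X, X, X, ← map_mul, ad, map_mul, map_mul],
    mul_assoc (X ρ 9 t * X ρ 10 (3 * u * t)), hg.eq, ← mul_assoc, mul_assoc (X ρ 9 t),
    ← mul_assoc (X ρ 10 (3 * u * t)),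
    show X ρ 10 (3 * u * t) * Ek ρ 10 ε = psi F (ε * (3 * u * t)) • Ek ρ 10 ε from (isRep ρ 10).mul_E _ _]
  simp only [mul_smul_comm, smul_mul_assoc, mul_assoc]
  congr 2
  ring

/-- The common multiplicity. -/
noncomputable def mm (ρ : Representation ℂ (Gr F) V) : ℕ := n3 ρ 0 0 1

include h3 in
theorem n3_top (δ ε : F) {φ : F} (hφ : φ ≠ 0) : n3 ρ δ ε φ = mm ρ := by
  rw [shift_d δ ε φ (δ / (3 * φ)), shift_e _ ε φ (ε / φ), mul_div_cancel₀ _ hφ,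
    mul_div_cancel₀ _ (mul_ne_zero h3 hφ), sub_self, sub_self]
  refine rk_move ρ (tor 1 (Units.mk0 φ hφ)) (A_idem 0 0 φ) ?_
  rw [move_mul (tor_E ρ 1 _ (by decide) 0)
    (move_mul (tor_E ρ 1 _ (by decide) 0) (tor_E ρ 1 _ (by decide) φ))]
  simp [wt, div_self hφ]

theorem sum_d (ε φ : F) : ∑ δ : F, n3 ρ δ ε φ = rk (Ek ρ 10 ε * Ek ρ 11 φ) :=
  sum_rk' ρ 9 (EF_idem ρ ε φ) fun t => X_EF ρ (by decide) (by decide) t ε φ

include h3 in
theorem rk_EF_top (ε : F) {φ : F} (hφ : φ ≠ 0) : rk (Ek ρ 10 ε * Ek ρ 11 φ) = q * mm ρ := by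
  rw [← sum_d, Finset.sum_congr rfl fun δ _ => n3_top h3 δ ε hφ, Finset.sum_const, Finset.card_univ,
    smul_eq_mul]

include h3 in
theorem rk_EF_zero {ε : F} (hε : ε ≠ 0) : rk (Ek ρ 10 ε * Ek ρ 11 0) = q * mm ρ := by
  obtain ⟨σ, τ, hσ, -, he⟩ := nn1_EF ρ ε 0
  rw [zero_div] at he
  rw [rk_move ρ (nn 1) (EF_idem ρ ε 0) he, rk_EF_top h3 0 (div_ne_zero hε hσ)]

include h3 in
theorem finrank_eq : finrank ℂ V + q * mm ρ = q ^ 3 * mm ρ + rk (PP ρ) := by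
  classical
  have h1 : finrank ℂ V = ∑ φ : F, ∑ ε : F, rk (Ek ρ 10 ε * Ek ρ 11 φ) := by
    rw [← rk_one, ← rk_sum Finset.univ (fun φ _ => E_idem' ρ 11 φ) (mul_one _) (isRep ρ 11).sum_E]
    exact Finset.sum_congr rfl fun φ _ => (sum_rk' ρ 10 (E_idem' ρ 11 φ)
      fun t => XE_comm ρ (by decide) t φ).symm
  have hz : ∑ ε : F, rk (Ek ρ 10 ε * Ek ρ 11 0) = (q - 1) * (q * mm ρ) + rk (PP ρ) := by
    rw [← Finset.sum_erase_add _ _ (Finset.mem_univ (0 : F)),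
      Finset.sum_congr rfl fun ε hε => rk_EF_zero h3 (Finset.ne_of_mem_erase hε)]
    simp [PP]
  rw [h1, ← Finset.sum_erase_add _ _ (Finset.mem_univ (0 : F)), hz,
    Finset.sum_congr rfl fun φ hφ => Finset.sum_congr rfl fun ε _ => rk_EF_top h3 ε
      (Finset.ne_of_mem_erase hφ)]
  simp only [Finset.sum_const, Finset.card_univ, smul_eq_mul, Finset.card_erase_of_mem (Finset.mem_univ _)]
  obtain ⟨Q, hQ⟩ : ∃ Q, q = Q + 1 := ⟨q - 1, by have := Fintype.card_pos (α := F); omega⟩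
  rw [hQ, Nat.add_sub_cancel]
  ring

include h h3 in
theorem mm_pos : 0 < mm ρ := by
  by_contra hne
  have h0 : mm ρ = 0 := by omega
  have hz : ∀ t, X ρ 11 t * (1 : Module.End ℂ V) = 1 := (isRep ρ 11).eq_one_of fun φ hφ => by
    rw [mul_one]
    refine rk_zero_iff.1 ?_
    show rk (Ek ρ 11 φ) = 0
    rw [← sum_rk' ρ 10 (E_idem' ρ 11 φ) (fun t => XE_comm ρ (by decide) t φ)]
    simp [rk_EF_top h3 _ hφ, h0]
  have h1 := hz 1
  rw [mul_one, X, ← map_one ρ] at h1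
  have h2 := congrArg (fun g : Gr F => (g.1 : GL chevG2.Idx F).val) (h.inj h1)
  simp only [xs, Facts.coe_xg, Subgroup.coe_one, Units.val_one] at h2
  exact one_ne_zero ((factsG2.x_eq_one 11 (by decide) (1 : F)).1 h2)

include h h3 in
theorem PP_ne (hm : mm ρ = 1) : PP ρ ≠ 0 := by
  classical
  intro hP
  set Q : Module.End ℂ V := Ek ρ 9 0 * (Ek ρ 10 1 * Ek ρ 11 0) with hQ
  have hQi : Q * Q = Q := A_idem 0 1 0
  have hsum : q * n3 ρ 0 1 0 = q * 1 := by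
    rw [← hm, ← rk_EF_zero h3 one_ne_zero, ← sum_d,
      Finset.sum_congr rfl fun δ _ => shift_d0 δ 1 (δ / 3)]
    simp [mul_div_cancel₀ _ h3]
  have hQ1 : rk Q = 1 := Nat.eq_of_mul_eq_mul_left Fintype.card_pos hsum
  have hX : ∀ t, Commute (X ρ 6 t) Q := fun t => (XE_comm ρ (by decide) t 0).mul_right (X6_EF0 ρ t 1)
  obtain ⟨t, ht⟩ := exists_pow_ne h (n := 3) (by norm_num) le_rfl
  have hb : ∀ β, β ≠ 0 → Ek ρ 6 β * Q = 0 := by
    intro β hβ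
    have hmv : ∀ β, rk (Ek ρ 6 β * Q) = rk (Ek ρ 6 (β / (t : F) ^ 3) * Q) := fun β => by
      refine rk_move ρ (tor t (t ^ 3)) (idem_mul (E_idem' ρ 6 β) hQi
        (E_commute (fun x => (hX x).symm) β).symm) ?_
      rw [hQ, move_mul (tor_E ρ t (t ^ 3) (by decide) β) (move_mul (tor_E0 ρ t (t ^ 3) (by decide))
        (move_mul (tor_E ρ t (t ^ 3) (by decide) 1) (tor_E0 ρ t (t ^ 3) (by decide))))]
      have e1 : ((wt t (t ^ 3) 10 : Fˣ) : F) = 1 := by simp [wt]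
      have e2 : ((wt t (t ^ 3) 6 : Fˣ) : F) = (t : F) ^ 3 := by
        simp only [wt, Units.val_mul, Units.val_zpow_eq_zpow_val, Units.val_pow_eq_pow_val]
        field_simp
      rw [e1, e2, div_one]
    refine rk_zero_iff.1 ?_
    by_contra hne
    have hs := sum_rk' ρ 6 hQi hX
    have hne' : β ≠ β / (t : F) ^ 3 := fun e => ht (by
      rw [eq_div_iff (pow_ne_zero 3 t.ne_zero), mul_eq_left₀ hβ] at e; exact e)
    have h2 : ∑ a ∈ ({β, β / (t : F) ^ 3} : Finset F), rk (Ek ρ 6 a * Q) ≤ rk Q := by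
      rw [← hs]; exact Finset.sum_le_sum_of_subset (Finset.subset_univ _)
    rw [Finset.sum_pair hne', ← hmv, hQ1] at h2
    omega
  have h0 : Ek ρ 6 0 * Q = Q := (isRep ρ 6).E_zero_mul ((isRep ρ 6).eq_one_of hb)
  obtain ⟨σ, -, he⟩ := nn_E ρ 0 (s := 10) (s' := 6) (by decide +kernel) (by norm_num)
  have hmove := move_mul (nn_E0 ρ 0 (s := 6) (s' := 10) (by decide +kernel) (by norm_num))
    (move_mul (nn_E0 ρ 0 (s := 9) (s' := 8) (by decide +kernel) (by norm_num))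
      (move_mul (he 1) (nn_E0 ρ 0 (s := 11) (s' := 11) (by decide +kernel) (by norm_num))))
  rw [← hQ, h0] at hmove
  have hzero : Ek ρ 10 0 * (Ek ρ 8 0 * (Ek ρ 6 (1 / σ) * Ek ρ 11 0)) = 0 := by
    rw [(E_comm ρ (r := 6) (s := 11) (by decide) _ _).eq, ← mul_assoc (Ek ρ 8 0),
      (E_comm ρ (r := 8) (s := 11) (by decide) _ _).eq, ← mul_assoc, ← mul_assoc]
    show PP ρ * Ek ρ 8 0 * _ = 0
    rw [hP, zero_mul, zero_mul]
  rw [hzero, zero_mul] at hmove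
  have hQ0 : Q = 0 := by
    have := congrArg (fun A => ((u ρ (nn 0))⁻¹ : (Module.End ℂ V)ˣ).val * A) hmove
    simpa [← mul_assoc, ← u_val] using this
  rw [hQ0, rk_zero_iff.2 rfl] at hQ1
  exact zero_ne_one hQ1

include h in
theorem step_d : (q - 1) * (q - 1) ≤ rk (PP ρ) ∨ ∀ t, X ρ 9 t * PP ρ = PP ρ := by
  classical
  set Z : F → Module.End ℂ V := fun δ => Ek ρ 9 δ * PP ρ with hZ
  have hXZ : ∀ t, Commute (X ρ 9 t) (PP ρ) := fun t => X_EF ρ (by decide) (by decide) t 0 0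
  have hZi : ∀ δ, Z δ * Z δ = Z δ := fun δ =>
    idem_mul (E_idem' ρ 9 δ) (PP_idem ρ) (E_commute (fun t => (hXZ t).symm) δ).symm
  have hc8 : ∀ u δ, Commute (X ρ 8 u) (Z δ) := fun u δ => by
    have e := E_shift (g := X ρ 8 u) (R := X ρ 9) (P := PP ρ) (c := 0) (fun x => by
      rw [zero_mul, AddChar.map_zero_eq_one, one_smul, ← mul_assoc,
        show X ρ 8 u * X ρ 9 x = X ρ 9 x * X ρ 11 (3 * u * x) * X ρ 8 u from by
          rw [X, X, X, ← map_mul, cd, map_mul, map_mul],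
        mul_assoc (X ρ 9 x * X ρ 11 (3 * u * x)),
        show X ρ 8 u * PP ρ = PP ρ * X ρ 8 u from (X_EF ρ (by decide) (by decide) u 0 0).eq,
        ← mul_assoc, mul_assoc (X ρ 9 x), X11_PP]) δ
    rw [sub_zero] at e
    exact e
  have hidem : ∀ γ δ, Ek ρ 8 γ * Z δ * (Ek ρ 8 γ * Z δ) = Ek ρ 8 γ * Z δ := fun γ δ =>
    idem_mul (E_idem' ρ 8 γ) (hZi δ) (E_commute (fun t => (hc8 t δ).symm) γ).symm
  by_cases hex : ∃ γ δ, γ ≠ 0 ∧ δ ≠ 0 ∧ Ek ρ 8 γ * Z δ ≠ 0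
  · left
    obtain ⟨γ, δ, hγ, hδ, hne⟩ := hex
    have hall : ∀ γ' δ', γ' ≠ 0 → δ' ≠ 0 → 1 ≤ rk (Ek ρ 8 γ' * Z δ') := by
      intro γ' δ' hγ' hδ'
      set κ : Fˣ := Units.mk0 (δ / δ') (div_ne_zero hδ hδ') with hκ
      set lam : Fˣ := κ * Units.mk0 (γ / γ') (div_ne_zero hγ hγ') with hlam
      have e8 : ((wt κ lam 8 : Fˣ) : F) = γ / γ' := by simp [wt, hlam]
      have e9 : ((wt κ lam 9 : Fˣ) : F) = δ / δ' := by simp [wt, hκ]
      have hm : rk (Ek ρ 8 γ * Z δ) = rk (Ek ρ 8 γ' * Z δ') := by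
        refine rk_move ρ (tor κ lam) (hidem γ δ) ?_
        rw [hZ, move_mul (tor_E ρ κ lam (by decide) γ) (move_mul (tor_E ρ κ lam (by decide) δ)
          (tor_PP ρ κ lam)), e8, e9, div_div_cancel₀ hγ, div_div_cancel₀ hδ]
      rw [← hm, Nat.one_le_iff_ne_zero]
      exact fun e => hne (rk_zero_iff.1 e)
    calc (q - 1) * (q - 1) = ∑ δ ∈ Finset.univ.erase (0 : F), ∑ γ ∈ Finset.univ.erase (0 : F), 1 := by simp
      _ ≤ ∑ δ ∈ Finset.univ.erase (0 : F), rk (Z δ) := Finset.sum_le_sum fun δ hδ' => by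
          rw [← sum_rk' ρ 8 (hZi δ) (fun t => hc8 t δ)]
          exact (Finset.sum_le_sum fun γ hγ' => hall γ δ (Finset.ne_of_mem_erase hγ')
            (Finset.ne_of_mem_erase hδ')).trans (Finset.sum_le_sum_of_subset (Finset.subset_univ _))
      _ ≤ ∑ δ : F, rk (Z δ) := Finset.sum_le_sum_of_subset (Finset.subset_univ _)
      _ = rk (PP ρ) := sum_rk' ρ 9 (PP_idem ρ) hXZ
  · right
    push Not at hex
    refine (isRep ρ 9).eq_one_of fun δ hδ => ?_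
    show Z δ = 0
    have hc : ∀ δ, δ ≠ 0 → ∀ x, X ρ 8 x * Z δ = Z δ := fun δ hδ =>
      (isRep ρ 8).eq_one_of fun γ hγ => hex γ δ hγ hδ
    have ha : ∀ x, X ρ 7 x * Z δ = Z δ := by
      intro x
      obtain ⟨σ, hσ, hm⟩ := nn_to (F := F) 1 (s := 8) (s' := 7) (by decide +kernel) (by norm_num)
      obtain ⟨τ, hτ, hd⟩ := nn_E ρ 1 (s := 9) (s' := 9) (by decide +kernel) (by norm_num)
      have hmove : ρ (nn 1) * Z (τ * δ) = Z δ * ρ (nn 1) := by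
        show ρ (nn 1) * (Ek ρ 9 (τ * δ) * PP ρ) = _
        rw [move_mul (hd (τ * δ)) (nn1_PP ρ), mul_div_cancel_left₀ δ hτ]
      have hx : ρ (nn 1) * X ρ 8 (x / σ) = X ρ 7 x * ρ (nn 1) := by
        rw [X, X, ← map_mul, hm, map_mul, mul_div_cancel₀ _ hσ]
      have e := move_mul hx hmove
      rw [hc _ (mul_ne_zero hτ hδ), hmove] at e
      exact ((u ρ (nn 1)).mul_left_inj.1 e).symm
    obtain ⟨t, ht⟩ := psi_ne hδ
    have hb : Commute (X ρ 6 t) (Z δ) := (XE_comm ρ (by decide) t δ).mul_right (X6_PP ρ t)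
    have e : X ρ 7 1 * X ρ 6 t = X ρ 6 t * (X ρ 8 (-(1 * t)) * X ρ 9 (1 ^ 2 * t) * X ρ 10 (1 ^ 3 * t) *
        X ρ 11 (1 ^ 3 * t ^ 2)) * X ρ 7 1 := by simp only [X, ← map_mul, ab]
    have e' := congrArg (· * Z δ) e
    simp only [mul_assoc, ha] at e'
    rw [hb.eq, ← mul_assoc (X ρ 7 1), ha] at e'
    have h11 : ∀ x, X ρ 11 x * Z δ = Z δ := fun x => by
      show X ρ 11 x * (Ek ρ 9 δ * PP ρ) = Ek ρ 9 δ * PP ρ
      rw [← mul_assoc, (XE_comm ρ (r := 11) (s := 9) (by decide) x δ).eq, mul_assoc, X11_PP]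
    have h10 : ∀ x, X ρ 10 x * Z δ = Z δ := fun x => by
      show X ρ 10 x * (Ek ρ 9 δ * PP ρ) = Ek ρ 9 δ * PP ρ
      rw [← mul_assoc, (XE_comm ρ (r := 10) (s := 9) (by decide) x δ).eq, mul_assoc, X10_PP]
    have h9 : X ρ 9 (1 ^ 2 * t) * Z δ = psi F (δ * t) • Z δ := by
      show _ * (Ek ρ 9 δ * PP ρ) = _
      rw [← mul_assoc, Ek, (isRep ρ 9).mul_E, smul_mul_assoc]
      simp [hZ, Ek]
    rw [h11, h10, h9, mul_smul_comm, mul_smul_comm, hc δ hδ, ← hb.eq] at e'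
    have hu : IsUnit (X ρ 6 t) := ⟨u ρ (xs 6 t), rfl⟩
    have e'' : Z δ = psi F (δ * t) • Z δ := hu.mul_left_cancel (e'.trans (mul_smul_comm _ _ _).symm)
    by_contra hne
    exact ht (scalar_unique hne (a := psi F (δ * t)) (b := 1) (by rw [one_smul]; exact e''.symm))

include h in
theorem step_c (hd : ∀ t, X ρ 9 t * PP ρ = PP ρ) :
    q * (q - 1) ≤ rk (PP ρ) ∨ (∀ t, X ρ 8 t * PP ρ = PP ρ) ∧ ∀ t, X ρ 7 t * PP ρ = PP ρ := by
  classical
  set Z : F → Module.End ℂ V := fun γ => Ek ρ 8 γ * PP ρ with hZ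
  have h8 : ∀ t, Commute (X ρ 8 t) (PP ρ) := fun t => X_EF ρ (by decide) (by decide) t 0 0
  have hZi : ∀ γ, Z γ * Z γ = Z γ := fun γ =>
    idem_mul (E_idem' ρ 8 γ) (PP_idem ρ) (E_commute (fun t => (h8 t).symm) γ).symm
  have h7P : ∀ u, Commute (X ρ 7 u) (PP ρ) := fun u => X_EF ρ (by decide) (by decide) u 0 0
  have hc7 : ∀ u γ, Commute (X ρ 7 u) (Z γ) := fun u γ => by
    have e := E_shift (g := X ρ 7 u) (R := X ρ 8) (P := PP ρ) (c := 0) (fun x => by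
      rw [zero_mul, AddChar.map_zero_eq_one, one_smul, ← mul_assoc,
        show X ρ 7 u * X ρ 8 x = X ρ 8 x * (X ρ 9 (-(2 * u * x)) * X ρ 10 (-(3 * u ^ 2 * x)) *
          X ρ 11 (3 * u * x ^ 2)) * X ρ 7 u from by simp only [X, ← map_mul, ac]]
      simp only [mul_assoc]
      rw [(h7P u).eq]
      simp only [← mul_assoc]
      rw [mul_assoc (X ρ 8 x * _ * _), X11_PP, mul_assoc (X ρ 8 x * _), X10_PP, mul_assoc (X ρ 8 x), hd]) γ
    rw [sub_zero] at e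
    exact e
  by_cases hex : ∃ γ, γ ≠ 0 ∧ Z γ ≠ 0
  · left
    obtain ⟨γ, hγ, hne⟩ := hex
    have hI : ∀ α γ, Ek ρ 7 α * Z γ * (Ek ρ 7 α * Z γ) = Ek ρ 7 α * Z γ := fun α γ =>
      idem_mul (E_idem' ρ 7 α) (hZi γ) (E_commute (fun t => (hc7 t γ).symm) α).symm
    have hshift : ∀ α, rk (Ek ρ 7 α * Z γ) = rk (Ek ρ 7 0 * Z γ) := by
      intro α
      have hb : Commute (X ρ 6 (α / γ)) (Z γ) := (XE_comm ρ (by decide) _ γ).mul_right (X6_PP ρ _)
      refine rk_move ρ (xs 6 (α / γ)) (hI α γ) ?_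
      have e := E_shift (g := X ρ 6 (α / γ)) (R := X ρ 7) (P := Z γ) (c := α) (fun x => by
        rw [← mul_assoc, show X ρ 6 (α / γ) * X ρ 7 x = X ρ 7 x * (X ρ 8 (α / γ * x) *
          X ρ 9 (α / γ * x ^ 2) * X ρ 10 (-(α / γ * x ^ 3)) * X ρ 11 (-(2 * (α / γ) ^ 2 * x ^ 3))) *
          X ρ 6 (α / γ) from by simp only [X, ← map_mul, ba]]
        have k11 : ∀ y, X ρ 11 y * Z γ = Z γ := fun y => by
          show X ρ 11 y * (Ek ρ 8 γ * PP ρ) = Ek ρ 8 γ * PP ρ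
          rw [← mul_assoc, (XE_comm ρ (r := 11) (s := 8) (by decide) y γ).eq, mul_assoc, X11_PP]
        have k10 : ∀ y, X ρ 10 y * Z γ = Z γ := fun y => by
          show X ρ 10 y * (Ek ρ 8 γ * PP ρ) = Ek ρ 8 γ * PP ρ
          rw [← mul_assoc, (XE_comm ρ (r := 10) (s := 8) (by decide) y γ).eq, mul_assoc, X10_PP]
        have k9 : ∀ y, X ρ 9 y * Z γ = Z γ := fun y => by
          have hcm : Commute (X ρ 9 y) (Z γ) := by
            have e9 := E_shift (g := X ρ 9 y) (R := X ρ 8) (P := PP ρ) (c := 0) (fun z => by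
              rw [zero_mul, AddChar.map_zero_eq_one, one_smul]
              have := congrArg (fun g => ρ g * PP ρ) (cd (F := F) z y)
              simp only [map_mul] at this
              show X ρ 9 y * (X ρ 8 z * PP ρ) = X ρ 8 z * PP ρ * X ρ 9 y
              have h9 : Commute (X ρ 9 y) (PP ρ) := X_EF ρ (by decide) (by decide) y 0 0
              rw [mul_assoc (X ρ 8 z), ← h9.eq, hd, (h8 z).eq]
              change ρ (xs 8 z) * ρ (xs 9 y) * PP ρ = X ρ 9 y * X ρ 11 (3 * z * y) * X ρ 8 z * PP ρ at this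
              rw [mul_assoc, mul_assoc (X ρ 9 y * _), (h8 z).eq, mul_assoc (X ρ 9 y),
                ← mul_assoc (X ρ 11 _), X11_PP, show ρ (xs 9 y) * PP ρ = PP ρ from hd y,
                show ρ (xs 8 z) * PP ρ = PP ρ * X ρ 8 z from (h8 z).eq] at this
              exact this.symm) γ
            rw [sub_zero] at e9
            exact e9
          show X ρ 9 y * (Ek ρ 8 γ * PP ρ) = _
          have h9 : Commute (X ρ 9 y) (PP ρ) := X_EF ρ (by decide) (by decide) y 0 0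
          rw [show X ρ 9 y * (Ek ρ 8 γ * PP ρ) = Ek ρ 8 γ * PP ρ * X ρ 9 y from hcm.eq, mul_assoc, ← h9.eq, hd]
        have k8 : X ρ 8 (α / γ * x) * Z γ = psi F (α * x) • Z γ := by
          show _ * (Ek ρ 8 γ * PP ρ) = _
          rw [← mul_assoc, Ek, (isRep ρ 8).mul_E, smul_mul_assoc,
            show γ * (α / γ * x) = α * x by field_simp]
          simp [hZ, Ek]
        simp only [mul_assoc]
        rw [hb.eq]
        simp only [← mul_assoc]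
        rw [mul_assoc (X ρ 7 x * _ * _ * _), k11, mul_assoc (X ρ 7 x * _ * _), k10,
          mul_assoc (X ρ 7 x * _), k9, mul_assoc (X ρ 7 x), k8]
        simp only [mul_smul_comm, smul_mul_assoc]) α
      rwa [sub_self] at e
    have hq : q ≤ rk (Z γ) := by
      rw [← sum_rk' ρ 7 (hZi γ) (fun t => hc7 t γ), Finset.sum_congr rfl fun α _ => hshift α,
        Finset.sum_const, Finset.card_univ, smul_eq_mul]
      refine Nat.le_mul_of_pos_right _ (Nat.pos_of_ne_zero fun e => hne ?_)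
      refine rk_zero_iff.1 ?_
      rw [← sum_rk' ρ 7 (hZi γ) (fun t => hc7 t γ), Finset.sum_congr rfl fun α _ => hshift α, e]
      simp
    have hall : ∀ γ', γ' ≠ 0 → rk (Z γ') = rk (Z γ) := fun γ' hγ' => by
      refine (rk_move ρ (tor 1 (Units.mk0 (γ / γ') (div_ne_zero hγ hγ'))) (hZi γ) ?_).symm
      rw [hZ, move_mul (tor_E ρ 1 _ (by decide) γ) (tor_PP ρ 1 _)]
      simp [wt, div_div_cancel₀ hγ]
    calc q * (q - 1) = ∑ γ' ∈ Finset.univ.erase (0 : F), q := by simp [mul_comm]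
      _ ≤ ∑ γ' ∈ Finset.univ.erase (0 : F), rk (Z γ') :=
          Finset.sum_le_sum fun γ' h' => (hall γ' (Finset.ne_of_mem_erase h')).symm ▸ hq
      _ ≤ ∑ γ' : F, rk (Z γ') := Finset.sum_le_sum_of_subset (Finset.subset_univ _)
      _ = rk (PP ρ) := sum_rk' ρ 8 (PP_idem ρ) h8
  · right
    push Not at hex
    refine ⟨(isRep ρ 8).eq_one_of hex, (isRep ρ 7).eq_one_of fun α hα => ?_⟩
    obtain ⟨σ, hσ, hm⟩ := nn_E ρ 1 (s := 7) (s' := 8) (by decide +kernel) (by norm_num)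
    show Ek ρ 7 α * PP ρ = 0
    have e := move_mul (hm α) (nn1_PP ρ)
    rw [show Ek ρ 8 (α / σ) * PP ρ = 0 from hex _ (div_ne_zero hα hσ), zero_mul] at e
    exact (u ρ (nn 1)).mul_right_eq_zero.1 e

include h in
theorem P0_fixed (ha : ∀ t, X ρ 7 t * PP ρ = PP ρ) (hb : ∀ t, X ρ 5 t * P0 ρ = P0 ρ) : P0 ρ = 0 := by
  have h6 : ∀ t, X ρ 6 t * P0 ρ = P0 ρ := fun t => by rw [P0, ← mul_assoc, X_E]
  have h7 : ∀ t, X ρ 7 t * P0 ρ = P0 ρ := fun t => by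
    have hc : Commute (X ρ 7 t) (PP ρ) := X_EF ρ (by decide) (by decide) t 0 0
    rw [P0, (E6_PP ρ 0).eq, ← mul_assoc, ha]
  have h4 : ∀ t, X ρ 4 t * P0 ρ = P0 ρ := fun t => by
    obtain ⟨σ, hσ, hm⟩ := nn_to (F := F) 0 (s := 7) (s' := 4) (by decide +kernel) (by norm_num)
    have hx : ρ (nn 0) * X ρ 7 (t / σ) = X ρ 4 t * ρ (nn 0) := by
      rw [X, X, ← map_mul, hm, map_mul, mul_div_cancel₀ _ hσ]
    have e := move_mul hx (nn0_P0 ρ)
    rw [h7, nn0_P0] at e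
    exact ((u ρ (nn 0)).mul_left_inj.1 e).symm
  refine eq_zero_of_fixed h fun s hs => ?_
  simp only [List.mem_cons, List.not_mem_nil, or_false] at hs
  rcases hs with rfl | rfl | rfl | rfl
  exacts [h7, h6, hb, h4]

/-- The configuration left when the degree is at most q³. -/
structure AtMost (ρ : Representation ℂ (Gr F) V) : Prop where
  deg : finrank ℂ V + 1 = q ^ 3 + rk (P0 ρ)
  line : ∀ β, β ≠ 0 → rk (Ek ρ 6 β * PP ρ) = 1
  fixA : ∀ t, X ρ 7 t * PP ρ = PP ρ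
  le_one : rk (P0 ρ) ≤ 1

include h h3 in
theorem degree_or_atMost : q ^ 3 + 1 ≤ finrank ℂ V ∨ AtMost ρ := by
  classical
  have hq := h.card
  have he := finrank_eq (ρ := ρ) h3
  have hm0 := mm_pos h h3
  by_cases hm : mm ρ = 1
  swap
  · left
    have : 2 ≤ mm ρ := by omega
    obtain ⟨n, hn⟩ := Nat.exists_eq_add_of_le this
    rw [hn] at he
    have h5 : 25 * q ≤ q ^ 3 := by
      have h2 : 25 ≤ q ^ 2 := le_trans (by norm_num) (Nat.pow_le_pow_left hq 2)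
      rw [pow_succ]; exact Nat.mul_le_mul_right _ h2
    have h6 : n * q ≤ n * q ^ 3 := Nat.mul_le_mul_left _ (Nat.le_self_pow (by norm_num) _)
    ring_nf at he h5 h6 ⊢
    omega
  rw [hm, mul_one, mul_one] at he
  by_cases hbig : q + 1 ≤ rk (PP ρ)
  · left; omega
  rcases step_d h with hd | hd
  · left
    have : q + 1 ≤ (q - 1) * (q - 1) := by
      obtain ⟨Q, hQ⟩ : ∃ Q, q = Q + 5 := ⟨q - 5, by omega⟩
      rw [hQ, show Q + 5 - 1 = Q + 4 by omega]; nlinarith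
    omega
  rcases step_c h hd with hc | ⟨-, ha⟩
  · left
    have : q + 1 ≤ q * (q - 1) := by
      obtain ⟨Q, hQ⟩ : ∃ Q, q = Q + 5 := ⟨q - 5, by omega⟩
      rw [hQ, show Q + 5 - 1 = Q + 4 by omega]; nlinarith
    omega
  have h6P : ∀ t, Commute (X ρ 6 t) (PP ρ) := X6_PP ρ
  have hall : ∀ β, β ≠ 0 → rk (Ek ρ 6 β * PP ρ) = rk (Ek ρ 6 1 * PP ρ) := fun β hβ => by
    refine rk_move ρ (tor (Units.mk0 β⁻¹ (inv_ne_zero hβ)) (Units.mk0 β⁻¹ (inv_ne_zero hβ)))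
      (idem_mul (E_idem' ρ 6 β) (PP_idem ρ) (E6_PP ρ β)) ?_
    rw [move_mul (tor_E ρ _ _ (by decide) β) (tor_PP ρ _ _)]
    congr 2
    simp only [wt, ← zpow_add, Units.val_zpow_eq_zpow_val, Units.val_mk0]
    simp [hβ]
  have hne : rk (Ek ρ 6 1 * PP ρ) ≠ 0 := by
    intro e
    have hb : ∀ t, X ρ 6 t * PP ρ = PP ρ :=
      (isRep ρ 6).eq_one_of fun β hβ => rk_zero_iff.1 ((hall β hβ).trans e)
    have hP0 : P0 ρ = PP ρ := (isRep ρ 6).E_zero_mul hb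
    refine PP_ne h h3 hm (hP0 ▸ P0_fixed h ha fun t => ?_)
    obtain ⟨σ, hσ, hm'⟩ := nn_to (F := F) 1 (s := 6) (s' := 5) (by decide +kernel) (by norm_num)
    have hx : ρ (nn 1) * X ρ 6 (t / σ) = X ρ 5 t * ρ (nn 1) := by
      rw [X, X, ← map_mul, hm', map_mul, mul_div_cancel₀ _ hσ]
    have e' := move_mul hx (nn1_PP ρ)
    rw [hb, nn1_PP] at e'
    rw [hP0]
    exact ((u ρ (nn 1)).mul_left_inj.1 e').symm
  have hs := sum_rk' ρ 6 (PP_idem ρ) h6P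
  rw [← Finset.sum_erase_add _ _ (Finset.mem_univ (0 : F)),
    Finset.sum_congr rfl fun β hβ => hall β (Finset.ne_of_mem_erase hβ)] at hs
  simp only [Finset.sum_const, smul_eq_mul, Finset.card_erase_of_mem (Finset.mem_univ _),
    Finset.card_univ] at hs
  change (q - 1) * rk (Ek ρ 6 1 * PP ρ) + rk (P0 ρ) = rk (PP ρ) at hs
  by_cases he2 : 2 ≤ rk (Ek ρ 6 1 * PP ρ)
  · left
    have : (q - 1) * 2 ≤ (q - 1) * rk (Ek ρ 6 1 * PP ρ) := Nat.mul_le_mul_left _ he2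
    omega
  have he1 : rk (Ek ρ 6 1 * PP ρ) = 1 := by omega
  rw [he1, mul_one] at hs
  by_cases hc2 : 2 ≤ rk (P0 ρ)
  · left; omega
  right
  exact ⟨by omega, fun β hβ => (hall β hβ).trans he1, ha, by omega⟩

end Cfsg.Agent.Small.GTwoDegree
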