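import Cfsg.Agent.Lib.Lie.FactsG2
import Cfsg.Agent.Lib.Lie.Bruhat

/-!
The relations among the root elements of G₂(q) used for the lower bounds on degrees.
Roots: 7 = a (short), 6 = b (long), 8 = a+b, 9 = 2a+b, 10 = 3a+b, 11 = 3a+2b; s ↦ 11-s negates.
-/

set_option autoImplicit false
set_option maxRecDepth 4000
set_option linter.unusedSectionVars false

namespace Cfsg.Agent.Small.GTwoDegree

open Cfsg.Lie Cfsg.Agent.Lie

variable {F : Type*} [Field F]

/-- The group. -/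
abbrev Gr (F : Type*) [Field F] : Type _ := ↥(chevG2.group F)

/-- A root element of the group. -/
noncomputable def xs (r : ℕ) (t : F) : Gr F := ⟨factsG2.xg r t, factsG2.xg_mem_group r t⟩

theorem xs_add (r : ℕ) (t u : F) : xs r (t + u) = xs r t * xs r u := Subtype.ext (factsG2.xg_add r t u)

theorem xs_zero (r : ℕ) : xs r (0 : F) = 1 := Subtype.ext (factsG2.xg_zero r)

theorem xs_neg' (r : ℕ) (t : F) : xs r (-t) = (xs r t)⁻¹ :=
  eq_inv_of_mul_eq_one_left (by rw [← xs_add, neg_add_cancel, xs_zero])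

theorem swap {r s : ℕ} {L : List (ℕ × ℤ × ℕ × ℕ)} (h : chevG2.commTerms r s = L) (hr : r < 12)
    (hs : s < 12) (h1 : s ≠ r) (h2 : s ≠ chevG2.neg r) (u t : F) :
    xs r u * xs s t = xs s t * (L.map fun c => xs c.1 ((c.2.1 : F) * u ^ c.2.2.1 * t ^ c.2.2.2)).prod *
      xs r u := by
  apply Subtype.ext
  have key := (factsG2.tsys F).x_comm r s hr hs h1 h2 (-u) t
  simp only [ChevalleyDatum.commWord, h, List.map_map, factsG2.tsys_x] at key
  simp only [Subgroup.coe_mul, SubmonoidClass.coe_list_prod, List.map_map, xs]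
  rw [factsG2.xg_neg] at key
  simp only [neg_neg, Function.comp_def] at key ⊢
  rw [mul_assoc (factsG2.xg r u)⁻¹, eq_inv_mul_iff_mul_eq, ← mul_assoc, ← eq_mul_inv_iff_mul_eq] at key
  rw [inv_inv] at key
  exact key

/-- The commuting pairs. -/
theorem com_tab : ∀ p ∈ [(6, 8), (6, 9), (6, 11), (7, 10), (7, 11), (8, 10), (8, 11), (9, 10), (9, 11), (10, 11)],
    chevG2.commTerms p.1 p.2 = [] ∧ p.1 < 12 ∧ p.2 < 12 ∧ p.2 ≠ p.1 ∧ p.2 ≠ chevG2.neg p.1 := by
  decide +kernel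

theorem xs_comm {r s : ℕ}
    (h : (r, s) ∈ [(6, 8), (6, 9), (6, 11), (7, 10), (7, 11), (8, 10), (8, 11), (9, 10), (9, 11), (10, 11)])
    (u t : F) : Commute (xs r u) (xs s t) := by
  obtain ⟨h, hr, hs, h1, h2⟩ := com_tab _ h
  show _ = _
  rw [swap h hr hs h1 h2]
  simp

theorem ab (u t : F) : xs 7 u * xs 6 t = xs 6 t * (xs 8 (-(u * t)) * xs 9 (u ^ 2 * t) * xs 10 (u ^ 3 * t) *
    xs 11 (u ^ 3 * t ^ 2)) * xs 7 u := by
  rw [swap (r := 7) (s := 6) (L := [(8, -1, 1, 1), (9, 1, 2, 1), (10, 1, 3, 1), (11, 1, 3, 2)])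
    (by decide +kernel) (by norm_num) (by norm_num) (by norm_num) (by decide +kernel)]
  simp [mul_assoc]

theorem ba (u t : F) : xs 6 u * xs 7 t = xs 7 t * (xs 8 (u * t) * xs 9 (u * t ^ 2) * xs 10 (-(u * t ^ 3)) *
    xs 11 (-(2 * u ^ 2 * t ^ 3))) * xs 6 u := by
  rw [swap (r := 6) (s := 7) (L := [(8, 1, 1, 1), (9, 1, 1, 2), (10, -1, 1, 3), (11, -2, 2, 3)])
    (by decide +kernel) (by norm_num) (by norm_num) (by norm_num) (by decide +kernel)]
  simp [mul_assoc]

theorem ac (u t : F) : xs 7 u * xs 8 t = xs 8 t * (xs 9 (-(2 * u * t)) * xs 10 (-(3 * u ^ 2 * t)) *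
    xs 11 (3 * u * t ^ 2)) * xs 7 u := by
  rw [swap (r := 7) (s := 8) (L := [(9, -2, 1, 1), (10, -3, 2, 1), (11, 3, 1, 2)])
    (by decide +kernel) (by norm_num) (by norm_num) (by norm_num) (by decide +kernel)]
  simp [mul_assoc]

theorem ad (u t : F) : xs 7 u * xs 9 t = xs 9 t * xs 10 (3 * u * t) * xs 7 u := by
  rw [swap (r := 7) (s := 9) (L := [(10, 3, 1, 1)])
    (by decide +kernel) (by norm_num) (by norm_num) (by norm_num) (by decide +kernel)]
  simp [mul_assoc]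

theorem be (u t : F) : xs 6 u * xs 10 t = xs 10 t * xs 11 (u * t) * xs 6 u := by
  rw [swap (r := 6) (s := 10) (L := [(11, 1, 1, 1)])
    (by decide +kernel) (by norm_num) (by norm_num) (by norm_num) (by decide +kernel)]
  simp [mul_assoc]

theorem cd (u t : F) : xs 8 u * xs 9 t = xs 9 t * xs 11 (3 * u * t) * xs 8 u := by
  rw [swap (r := 8) (s := 9) (L := [(11, 3, 1, 1)])
    (by decide +kernel) (by norm_num) (by norm_num) (by norm_num) (by decide +kernel)]
  simp [mul_assoc]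

/-- The image of a root under a simple reflection. -/
abbrev rf (i : Fin 2) (s : ℕ) : ℕ := chevG2.reflectRoot i.val s

/-- A representative of a simple reflection. -/
noncomputable def nn (i : Fin 2) : Gr F :=
  xs (chevG2.simple i.val) 1 * xs (chevG2.neg (chevG2.simple i.val)) (-1) * xs (chevG2.simple i.val) 1

theorem nn_eq : (nn 0 : Gr F) = xs 7 1 * xs 4 (-1) * xs 7 1 ∧
    (nn 1 : Gr F) = xs 6 1 * xs 5 (-1) * xs 6 1 := ⟨rfl, rfl⟩

theorem nn_x (i : Fin 2) {s : ℕ} (hs : s < 12) :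
    ∃ σ : F, σ * σ = 1 ∧ ∀ t, nn i * xs s t = xs (rf i s) (σ * t) * nn i := by
  refine ⟨factsG2.sgn F i.val s, factsG2.sgn_mul_self i.isLt hs, fun t => Subtype.ext ?_⟩
  have h := (factsG2.tsys F).nS_conj i (s := s) hs t
  have e : ((nn i : Gr F) : GL chevG2.Idx F) = (factsG2.tsys F).nS i := by
    show _ = nElt chevG2 (factsG2.tsys F).x _ _
    simp [nn, xs, nElt, factsG2.tsys_x]
  rw [factsG2.tsys_x, factsG2.tsys_x] at h
  simp only [Subgroup.coe_mul, e, xs]
  rw [← h, inv_mul_cancel_right]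

theorem rf_tab : (List.range 12).map (rf 0) = [0, 5, 3, 2, 7, 1, 10, 4, 9, 8, 6, 11] ∧
    (List.range 12).map (rf 1) = [1, 0, 2, 4, 3, 6, 5, 8, 7, 9, 11, 10] := by decide +kernel

/-- A conjugation between root subgroups in a fixed direction. -/
theorem nn_to (i : Fin 2) {s s' : ℕ} (h : rf i s = s') (hs : s < 12) :
    ∃ σ : F, σ ≠ 0 ∧ ∀ t, nn i * xs s t = xs s' (σ * t) * nn i := by
  obtain ⟨σ, hσ, hc⟩ := nn_x (F := F) i hs
  exact ⟨σ, fun h0 => by simp [h0] at hσ, h ▸ hc⟩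

/-- The coordinates of a torus element. -/
def cv (κ lam : Fˣ) : Fin chevG2.rank → Fˣ := fun j => if j.val = 0 then κ else lam

/-- The torus element. -/
noncomputable def tor (κ lam : Fˣ) : Gr F :=
  ⟨Cfsg.Agent.Lie.torus chevG2 F (cv κ lam), by
    have e : cv κ lam = Pi.mulSingle (⟨0, by decide⟩ : Fin chevG2.rank) κ *
        Pi.mulSingle (⟨1, by decide⟩ : Fin chevG2.rank) lam := by
      funext j
      obtain ⟨j, hj⟩ := j
      have hj2 : j < 2 := hj
      interval_cases j <;> simp [cv]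
    rw [e, map_mul, factsG2.torus_single, factsG2.torus_single]
    exact mul_mem (factsG2.wg_mem_group _) (factsG2.wg_mem_group _)⟩

/-- The weights of the torus. -/
def wt (κ lam : Fˣ) : ℕ → Fˣ
  | 7 => κ ^ (2 : ℤ) * lam ^ (-1 : ℤ)
  | 6 => κ ^ (-3 : ℤ) * lam ^ (2 : ℤ)
  | 8 => κ ^ (-1 : ℤ) * lam ^ (1 : ℤ)
  | 9 => κ ^ (1 : ℤ) * lam ^ (0 : ℤ)
  | 10 => κ ^ (3 : ℤ) * lam ^ (-1 : ℤ)
  | 11 => κ ^ (0 : ℤ) * lam ^ (1 : ℤ)
  | 5 => κ ^ (3 : ℤ) * lam ^ (-2 : ℤ)
  | 4 => κ ^ (-2 : ℤ) * lam ^ (1 : ℤ)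
  | 1 => κ ^ (-3 : ℤ) * lam ^ (1 : ℤ)
  | 0 => κ ^ (0 : ℤ) * lam ^ (-1 : ℤ)
  | _ => 1

theorem cartan_tab : [7, 6, 8, 9, 10, 11, 5, 4, 1, 0].map (fun s => (chevG2.cartan 0 s, chevG2.cartan 1 s)) =
    [(2, -1), (-3, 2), (-1, 1), (1, 0), (3, -1), (0, 1), (3, -2), (-2, 1), (-3, 1), (0, -1)] := by decide +kernel

theorem tor_x (κ lam : Fˣ) {s : ℕ} (hs : s ∈ [7, 6, 8, 9, 10, 11, 5, 4, 1, 0]) (t : F) :
    tor κ lam * xs s t = xs s ((wt κ lam s : F) * t) * tor κ lam := by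
  have hs12 : s < 12 := by simp at hs; omega
  have hw : torChar chevG2 (cv κ lam) s = wt κ lam s := by
    have h := cartan_tab
    simp only [List.map_cons, List.map_nil, List.cons.injEq, Prod.mk.injEq] at h
    show ∏ i : Fin chevG2.rank, (if i.val = 0 then κ else lam) ^ chevG2.cartan i.val s = _
    rw [Fin.prod_univ_eq_prod_range (fun j => (if j = 0 then κ else lam) ^ chevG2.cartan j s) chevG2.rank,
      show chevG2.rank = 2 from rfl, Finset.prod_range_succ, Finset.prod_range_one]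
    simp at hs
    rcases hs with rfl | rfl | rfl | rfl | rfl | rfl | rfl | rfl | rfl | rfl <;> simp [wt, h]
  apply Subtype.ext
  have h := factsG2.torus_conj (cv κ lam) hs12 t
  rw [hw] at h
  simp only [Subgroup.coe_mul, tor, xs]
  rw [← h, inv_mul_cancel_right]

/-- A subgroup containing the four simple root groups is everything. -/
theorem top_of_simple {H : Subgroup (Gr F)} (h : ∀ s ∈ [7, 6, 5, 4], ∀ t, xs s t ∈ H) : H = ⊤ := by
  have hn : ∀ i : Fin 2, nn i ∈ H := fun i => by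
    fin_cases i
    · show nn 0 ∈ H
      rw [nn_eq.1]; exact mul_mem (mul_mem (h 7 (by simp) _) (h 4 (by simp) _)) (h 7 (by simp) _)
    · show nn 1 ∈ H
      rw [nn_eq.2]; exact mul_mem (mul_mem (h 6 (by simp) _) (h 5 (by simp) _)) (h 6 (by simp) _)
  have step : ∀ (i : Fin 2) (s s' : ℕ), rf i s = s' → s < 12 → (∀ t, xs s t ∈ H) → ∀ t, xs s' t ∈ H := by
    intro i s s' e hs hx t
    obtain ⟨σ, hσ, hc⟩ := nn_to (F := F) i e hs
    have h' := hc (t / σ)
    rw [mul_div_cancel₀ _ hσ] at h'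
    rw [show xs s' t = nn i * xs s (t / σ) * (nn i)⁻¹ by rw [h', mul_inv_cancel_right]]
    exact mul_mem (mul_mem (hn i) (hx _)) (inv_mem (hn i))
  have h7 := h 7 (by simp); have h6 := h 6 (by simp); have h5 := h 5 (by simp); have h4 := h 4 (by simp)
  have h8 := step 1 7 8 (by decide +kernel) (by norm_num) h7
  have h9 := step 0 8 9 (by decide +kernel) (by norm_num) h8
  have h10 := step 0 6 10 (by decide +kernel) (by norm_num) h6
  have h11 := step 1 10 11 (by decide +kernel) (by norm_num) h10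
  have h3 := step 1 4 3 (by decide +kernel) (by norm_num) h4
  have h2 := step 0 3 2 (by decide +kernel) (by norm_num) h3
  have h1 := step 0 5 1 (by decide +kernel) (by norm_num) h5
  have h0 := step 1 1 0 (by decide +kernel) (by norm_num) h1
  rw [eq_top_iff]
  have hle : chevG2.group F ≤ H.map (chevG2.group F).subtype := by
    refine (le_of_eq factsG2.group_eq).trans ((Subgroup.closure_le _).2 ?_)
    rintro g ⟨⟨r, t⟩, rfl⟩
    refine ⟨xs r t, ?_, rfl⟩
    by_cases hr : r < 12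
    · interval_cases r <;> solve_by_elim
    · rw [SetLike.mem_coe, show xs r t = 1 from Subtype.ext (factsG2.xg_out (by
        show 12 ≤ r; omega) t)]
      exact one_mem H
  intro g _
  obtain ⟨x, hx, e⟩ := hle g.2
  rwa [← (Subtype.ext e : x = g)]

end Cfsg.Agent.Small.GTwoDegree
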