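import Cfsg.Agent.Lib.Small.GTwoDegree.Proj
import Cfsg.Agent.Lib.Small.GTwoDegree.Rel

/-!
An irreducible representation of G₂(q): the projections attached to the root groups.
-/

set_option autoImplicit false
set_option linter.unusedSectionVars false

namespace Cfsg.Agent.Small.GTwoDegree

open Cfsg.Lie Cfsg.Agent.Lie Module Finset

variable {F : Type*} [Field F] [Fintype F] {V : Type*} [AddCommGroup V] [Module ℂ V] [FiniteDimensional ℂ V]

/-- The hypotheses on a representation. -/
structure Good (ρ : Representation ℂ (Gr F) V) : Prop where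
  card : 4 < Fintype.card F
  inj : Function.Injective ρ
  nofix : ∀ v : V, (∀ g, ρ g v = v) → v = 0

theorem good_of_irreducible (ρ : Representation ℂ (Gr F) V) (hs : IsSimpleGroup (Gr F))
    (hρ : ρ.IsIrreducible) (hk : 2 ≤ finrank ℂ V) (hq : 4 < Fintype.card F) : Good ρ := by
  have hfix : ∀ v : V, (∀ g, ρ g v = v) → v = 0 := by
    intro v hv
    by_contra hne
    let W : Subrepresentation ρ := ⟨Submodule.span ℂ {v}, fun g w hw => by
      obtain ⟨c, rfl⟩ := Submodule.mem_span_singleton.1 hw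
      rw [map_smul, hv]; exact Submodule.smul_mem _ _ (Submodule.mem_span_singleton_self v)⟩
    rcases hρ.eq_bot_or_eq_top W with h | h
    · exact hne ((Submodule.mem_bot ℂ).1 (show v ∈ (⊥ : Subrepresentation ρ).toSubmodule from
        h ▸ (Submodule.mem_span_singleton_self v : v ∈ W.toSubmodule)))
    · have h' : Submodule.span ℂ {v} = ⊤ := by
        have := congrArg Subrepresentation.toSubmodule h
        exact this
      have := finrank_span_singleton (K := ℂ) hne
      rw [h', finrank_top] at this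
      omega
  refine ⟨hq, ?_, hfix⟩
  have hk' : MonoidHom.ker ρ.toHomUnits = ⊥ := by
    rcases hs.eq_bot_or_eq_top_of_normal (MonoidHom.ker ρ.toHomUnits) (MonoidHom.normal_ker _) with h | h
    · exact h
    · exfalso
      have hz : ∀ v : V, v = 0 := fun v => hfix v fun g => by
        have : g ∈ MonoidHom.ker ρ.toHomUnits := h ▸ Subgroup.mem_top g
        have e := congrArg Units.val (MonoidHom.mem_ker.1 this)
        simp only [MonoidHom.coe_toHomUnits, Units.val_one] at e
        rw [e]; rfl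
      have : Subsingleton V := ⟨fun a b => by rw [hz a, hz b]⟩
      rw [finrank_zero_of_subsingleton] at hk
      omega
  intro g g' h
  exact (MonoidHom.ker_eq_bot_iff _).1 hk' (Units.ext h)

variable (ρ : Representation ℂ (Gr F) V)

/-- The operators of a root group. -/
noncomputable def X (r : ℕ) (t : F) : Module.End ℂ V := ρ (xs r t)

/-- The projection on a character of a root group. -/
noncomputable def Ek (r : ℕ) (a : F) : Module.End ℂ V := E (X ρ r) a

/-- The unit of an element. -/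
noncomputable def u (g : Gr F) : (Module.End ℂ V)ˣ := ρ.toHomUnits g

theorem u_val (g : Gr F) : (u ρ g : Module.End ℂ V) = ρ g := rfl

theorem isRep (r : ℕ) : IsRep (X ρ r) :=
  ⟨by rw [X, xs_zero, map_one], fun x y => by rw [X, xs_add, map_mul]; rfl⟩

/-- The commuting pairs, in both orders. -/
def cpairs : List (ℕ × ℕ) :=
  [(6, 8), (6, 9), (6, 11), (7, 10), (7, 11), (8, 10), (8, 11), (9, 10), (9, 11), (10, 11),
   (8, 6), (9, 6), (11, 6), (10, 7), (11, 7), (10, 8), (11, 8), (10, 9), (11, 9), (11, 10)]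

theorem X_comm {r s : ℕ} (h : (r, s) ∈ cpairs) (x y : F) : Commute (X ρ r x) (X ρ s y) := by
  simp only [cpairs, List.mem_cons, Prod.mk.injEq, List.not_mem_nil, or_false] at h
  rcases h with h | h | h | h | h | h | h | h | h | h | h | h | h | h | h | h | h | h | h | h <;>
    obtain ⟨rfl, rfl⟩ := h <;>
    first
      | exact (xs_comm (by decide) x y).map ρ
      | exact ((xs_comm (by decide) y x).map ρ).symm

theorem XE_comm {r s : ℕ} (h : (r, s) ∈ cpairs) (x a : F) : Commute (X ρ r x) (Ek ρ s a) :=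
  E_commute (fun t => X_comm ρ h x t) a

theorem E_comm {r s : ℕ} (h : (r, s) ∈ cpairs) (a b : F) : Commute (Ek ρ r a) (Ek ρ s b) :=
  E_commute (fun t => (E_commute (fun x => (X_comm ρ h x t).symm) a).symm) b

theorem X_E (r : ℕ) (x : F) : X ρ r x * Ek ρ r 0 = Ek ρ r 0 := by
  rw [Ek, (isRep ρ r).mul_E, zero_mul, AddChar.map_zero_eq_one, one_smul]

theorem E_X (r : ℕ) (x : F) : Ek ρ r 0 * X ρ r x = Ek ρ r 0 := by
  rw [Ek, (isRep ρ r).E_mul, zero_mul, AddChar.map_zero_eq_one, one_smul]

theorem nn_E (i : Fin 2) {s s' : ℕ} (h : rf i s = s') (hs : s < 12) :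
    ∃ σ : F, σ ≠ 0 ∧ ∀ a, ρ (nn i) * Ek ρ s a = Ek ρ s' (a / σ) * ρ (nn i) := by
  obtain ⟨σ, hσ, hc⟩ := nn_to (F := F) i h hs
  exact ⟨σ, hσ, E_move hσ fun t => by rw [X, X, ← map_mul, hc, map_mul]⟩

theorem nn_E0 (i : Fin 2) {s s' : ℕ} (h : rf i s = s') (hs : s < 12) :
    ρ (nn i) * Ek ρ s 0 = Ek ρ s' 0 * ρ (nn i) := by
  obtain ⟨σ, -, hc⟩ := nn_E ρ i h hs
  rw [hc, zero_div]

theorem tor_E (κ lam : Fˣ) {s : ℕ} (hs : s ∈ [7, 6, 8, 9, 10, 11, 5, 4, 1, 0]) (a : F) :
    ρ (tor κ lam) * Ek ρ s a = Ek ρ s (a / (wt κ lam s : F)) * ρ (tor κ lam) :=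
  E_move (Units.ne_zero _) (fun t => by rw [X, X, ← map_mul, tor_x κ lam hs, map_mul]) a

theorem tor_E0 (κ lam : Fˣ) {s : ℕ} (hs : s ∈ [7, 6, 8, 9, 10, 11, 5, 4, 1, 0]) :
    ρ (tor κ lam) * Ek ρ s 0 = Ek ρ s 0 * ρ (tor κ lam) := by
  rw [tor_E ρ κ lam hs, zero_div]

/-- Moving a product through an intertwiner. -/
theorem move_mul {g A B A' B' : Module.End ℂ V} (h1 : g * A = A' * g) (h2 : g * B = B' * g) :
    g * (A * B) = A' * B' * g := by
  rw [← mul_assoc, h1, mul_assoc, h2, ← mul_assoc]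

theorem rk_move {A B : Module.End ℂ V} (g : Gr F) (hA : A * A = A) (h : ρ g * A = B * ρ g) :
    rk A = rk B := rk_eq_of_conj (g := u ρ g) hA h

theorem idem_mul {A B : Module.End ℂ V} (hA : A * A = A) (hB : B * B = B) (h : Commute A B) :
    A * B * (A * B) = A * B := by
  rw [mul_assoc, ← mul_assoc B, ← h.eq, mul_assoc, hB, ← mul_assoc, hA]

theorem E_idem' (r : ℕ) (a : F) : Ek ρ r a * Ek ρ r a = Ek ρ r a := (isRep ρ r).E_idem a

theorem sum_rk' (r : ℕ) {P : Module.End ℂ V} (hP : P * P = P) (hc : ∀ t, Commute (X ρ r t) P) :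
    ∑ a : F, rk (Ek ρ r a * P) = rk P := (isRep ρ r).sum_rk hP hc

variable {ρ} (h : Good ρ)
include h

theorem eq_zero_of_fixed {P : Module.End ℂ V} (hP : ∀ s ∈ [7, 6, 5, 4], ∀ t, X ρ s t * P = P) : P = 0 := by
  let H : Subgroup (Gr F) :=
    { carrier := {g | ρ g * P = P}
      mul_mem' := fun {a b} ha hb => by
        show ρ (a * b) * P = P
        rw [map_mul, mul_assoc, hb, ha]
      one_mem' := by show ρ 1 * P = P; rw [map_one, one_mul]
      inv_mem' := fun {a} ha => by
        show ρ a⁻¹ * P = P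
        conv_lhs => rw [← (show ρ a * P = P from ha), ← mul_assoc, ← map_mul, inv_mul_cancel, map_one, one_mul] }
  have htop : H = ⊤ := top_of_simple fun s hs t => hP s hs t
  ext x
  exact h.nofix (P x) fun g => LinearMap.congr_fun (show g ∈ H from htop ▸ Subgroup.mem_top g) x

/-- Not all nonzero elements are squares or cubes of the same value. -/
theorem exists_pow_ne {n : ℕ} (hn : 0 < n) (hn' : n ≤ 3) : ∃ t : Fˣ, (t : F) ^ n ≠ 1 := by
  classical
  by_contra hne
  push Not at hne
  have hsub : (Finset.univ : Finset Fˣ).image (fun t : Fˣ => (t : F)) ⊆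
      (Polynomial.nthRootsFinset n (1 : F)) := fun x hx => by
    obtain ⟨t, -, rfl⟩ := Finset.mem_image.1 hx
    exact (Polynomial.mem_nthRootsFinset hn 1).2 (hne t)
  have hc := Finset.card_le_card hsub
  rw [Finset.card_image_of_injective _ Units.val_injective, Finset.card_univ, Fintype.card_units] at hc
  have h2 : (Polynomial.nthRootsFinset n (1 : F)).card ≤ n := by
    rw [Polynomial.nthRootsFinset_def]
    exact (Multiset.toFinset_card_le _).trans (Polynomial.card_nthRoots n 1)
  have := h.card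
  omega

end Cfsg.Agent.Small.GTwoDegree
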