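import Cfsg.Agent.Lib.Small.GTwoDegree.Rel

/-!
The q²+q+1 cosets of a maximal parabolic subgroup in the long root SL₃ inside G₂(q).
-/

set_option autoImplicit false
set_option maxRecDepth 4000
set_option linter.unusedSectionVars false

namespace Cfsg.Agent.Small.GTwoDegree

open Cfsg.Lie Cfsg.Agent.Lie

variable {F : Type*} [Field F]

/-- The reflection of the root 10. -/
noncomputable def nE : Gr F := nn 0 * nn 1 * (nn 0)⁻¹

/-- The parabolic subgroup. -/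
noncomputable def P3 (F : Type*) [Field F] : Subgroup (Gr F) :=
  Subgroup.closure ({g | ∃ r ∈ [5, 6, 10, 11], ∃ t, xs r t = g} ∪ (Set.range fun p : Fˣ × Fˣ => tor p.1 p.2) ∪ {nn 1})

theorem xs_P3 {r : ℕ} (hr : r ∈ [5, 6, 10, 11]) (t : F) : xs r t ∈ P3 F :=
  Subgroup.subset_closure (Or.inl (Or.inl ⟨r, hr, t, rfl⟩))

theorem tor_P3 (κ lam : Fˣ) : tor κ lam ∈ P3 F :=
  Subgroup.subset_closure (Or.inl (Or.inr ⟨(κ, lam), rfl⟩))

theorem nn1_P3 : (nn 1 : Gr F) ∈ P3 F := Subgroup.subset_closure (Or.inr rfl)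

theorem conj_n (i : Fin 2) {s s' : ℕ} (h : rf i s = s') (hs : s < 12) :
    ∃ σ : F, σ ≠ 0 ∧ ∀ t, nn i * xs s t * (nn i)⁻¹ = xs s' (σ * t) := by
  obtain ⟨σ, hσ, hc⟩ := nn_to (F := F) i h hs
  exact ⟨σ, hσ, fun t => by rw [hc, mul_inv_cancel_right]⟩

theorem conj_n' (i : Fin 2) {s s' : ℕ} (h : rf i s = s') (hs : s < 12) :
    ∃ σ : F, σ ≠ 0 ∧ ∀ t, (nn i)⁻¹ * xs s' t * nn i = xs s (σ * t) := by
  obtain ⟨σ, hσ, hc⟩ := nn_to (F := F) i h hs
  refine ⟨σ⁻¹, inv_ne_zero hσ, fun t => ?_⟩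
  rw [mul_assoc, inv_mul_eq_iff_eq_mul, hc, ← mul_assoc σ, mul_inv_cancel₀ hσ, one_mul]

/-- The conjugation action of nE along a chain of three reflections. -/
theorem conj_nE {s s1 s2 s3 : ℕ} (h1 : rf 0 s1 = s) (h2 : rf 1 s1 = s2) (h3 : rf 0 s2 = s3)
    (hs1 : s1 < 12) (hs2 : s2 < 12) :
    ∃ σ : F, σ ≠ 0 ∧ ∀ t, nE * xs s t * nE⁻¹ = xs s3 (σ * t) := by
  obtain ⟨a, ha, e1⟩ := conj_n' (F := F) 0 h1 hs1
  obtain ⟨b, hb, e2⟩ := conj_n (F := F) 1 h2 hs1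
  obtain ⟨c, hc, e3⟩ := conj_n (F := F) 0 h3 hs2
  refine ⟨c * b * a, mul_ne_zero (mul_ne_zero hc hb) ha, fun t => ?_⟩
  rw [show nE * xs s t * nE⁻¹ = nn 0 * (nn 1 * ((nn 0)⁻¹ * xs s t * nn 0) * (nn 1)⁻¹) * (nn 0)⁻¹ from by
    simp only [nE]; group, e1, e2, e3]
  congr 1; ring

theorem nE_six : ∃ σ : F, σ ≠ 0 ∧ ∀ t, nE * xs 6 t * nE⁻¹ = xs 11 (σ * t) :=
  conj_nE (s1 := 10) (s2 := 11) (by decide +kernel) (by decide +kernel) (by decide +kernel) (by norm_num) (by norm_num)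

theorem nE_eleven : ∃ σ : F, σ ≠ 0 ∧ ∀ t, nE * xs 11 t * nE⁻¹ = xs 6 (σ * t) :=
  conj_nE (s1 := 11) (s2 := 10) (by decide +kernel) (by decide +kernel) (by decide +kernel) (by norm_num) (by norm_num)

theorem nE_five : ∃ σ : F, σ ≠ 0 ∧ ∀ t, nE * xs 5 t * nE⁻¹ = xs 0 (σ * t) :=
  conj_nE (s1 := 1) (s2 := 0) (by decide +kernel) (by decide +kernel) (by decide +kernel) (by norm_num) (by norm_num)

theorem nE_ten : ∃ σ : F, σ ≠ 0 ∧ ∀ t, nE * xs 10 t * nE⁻¹ = xs 1 (σ * t) :=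
  conj_nE (s1 := 6) (s2 := 5) (by decide +kernel) (by decide +kernel) (by decide +kernel) (by norm_num) (by norm_num)

theorem nE_zero : ∃ σ : F, σ ≠ 0 ∧ ∀ t, nE * xs 0 t * nE⁻¹ = xs 5 (σ * t) :=
  conj_nE (s1 := 0) (s2 := 1) (by decide +kernel) (by decide +kernel) (by decide +kernel) (by norm_num) (by norm_num)

/-- The translates in the nontrivial double coset. -/
def Adj (g : Gr F) : Prop := ∃ a ∈ P3 F, ∃ b ∈ P3 F, g = a * nE * b ∨ g = a * nE⁻¹ * b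

theorem Adj.inv {g : Gr F} (h : Adj g) : Adj g⁻¹ := by
  obtain ⟨a, ha, b, hb, h | h⟩ := h <;> subst h
  · exact ⟨b⁻¹, inv_mem hb, a⁻¹, inv_mem ha, Or.inr (by group)⟩
  · exact ⟨b⁻¹, inv_mem hb, a⁻¹, inv_mem ha, Or.inl (by group)⟩

theorem Adj.mul_left {g c : Gr F} (hc : c ∈ P3 F) (h : Adj g) : Adj (c * g) := by
  obtain ⟨a, ha, b, hb, h | h⟩ := h <;> subst h
  · exact ⟨c * a, mul_mem hc ha, b, hb, Or.inl (by group)⟩
  · exact ⟨c * a, mul_mem hc ha, b, hb, Or.inr (by group)⟩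

theorem Adj.mul_right {g c : Gr F} (hc : c ∈ P3 F) (h : Adj g) : Adj (g * c) := by
  obtain ⟨a, ha, b, hb, h | h⟩ := h <;> subst h
  · exact ⟨a, ha, b * c, mul_mem hb hc, Or.inl (by group)⟩
  · exact ⟨a, ha, b * c, mul_mem hb hc, Or.inr (by group)⟩

theorem nn1_eq : (nn 1 : Gr F) = xs 6 1 * xs 5 (-1) * xs 6 1 := nn_eq.2

theorem adj_one {A : F} (hA : A ≠ 0) : Adj (xs 1 A) := by
  obtain ⟨a, ha0, ha⟩ := conj_n (F := F) 0 (s := 5) (s' := 1) (by decide +kernel) (by norm_num)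
  obtain ⟨b, -, hb⟩ := conj_n (F := F) 0 (s := 6) (s' := 10) (by decide +kernel) (by norm_num)
  have e : xs 1 (a * -1) = xs 10 (b * -1) * nE * xs 10 (b * -1) := by
    rw [← ha, ← hb, nE, nn1_eq, xs_neg' 6]
    simp only [mul_assoc, inv_mul_cancel_left, mul_inv_cancel_left]
  have hne : (a * -1) ≠ 0 := mul_ne_zero ha0 (neg_ne_zero.2 one_ne_zero)
  obtain ⟨lam, hlam⟩ : ∃ lam : Fˣ, (lam : F) = A / (a * -1) := ⟨Units.mk0 _ (div_ne_zero hA hne), rfl⟩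
  have hw : ((wt 1 lam 1 : Fˣ) : F) = A / (a * -1) := by
    rw [show wt 1 lam 1 = (1 : Fˣ) ^ (-3 : ℤ) * lam ^ (1 : ℤ) from rfl, one_zpow, one_mul, zpow_one, hlam]
  have h2 : xs 1 A = tor 1 lam * xs 1 (a * -1) * (tor 1 lam)⁻¹ := by
    rw [tor_x 1 lam (by decide), mul_inv_cancel_right, hw, div_mul_cancel₀ A hne]
  have h0 : Adj (nE : Gr F) := ⟨1, one_mem _, 1, one_mem _, Or.inl (by rw [one_mul, mul_one])⟩
  have h10 : ∀ t : F, xs 10 t ∈ P3 F := fun t => xs_P3 (by decide) t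
  have h1 : Adj (xs 1 (a * -1)) := e ▸ (h0.mul_left (h10 _)).mul_right (h10 _)
  exact h2 ▸ (h1.mul_left (tor_P3 1 lam)).mul_right (inv_mem (tor_P3 1 lam))

theorem five_one (s A : F) : xs 5 s * xs 1 A = xs 1 A * xs 0 (-(s * A)) * xs 5 s := by
  rw [swap (r := 5) (s := 1) (L := [(0, -1, 1, 1)])
    (by decide +kernel) (by norm_num) (by norm_num) (by norm_num) (by decide +kernel)]
  simp [mul_assoc]

theorem six_zero (s B : F) : xs 6 s * xs 0 B = xs 0 B * xs 1 (-(s * B)) * xs 6 s := by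
  rw [swap (r := 6) (s := 0) (L := [(1, -1, 1, 1)])
    (by decide +kernel) (by norm_num) (by norm_num) (by norm_num) (by decide +kernel)]
  simp [mul_assoc]

theorem com_neg : ∀ p ∈ [(0, 1), (1, 6), (1, 0), (6, 1)],
    chevG2.commTerms p.1 p.2 = [] ∧ p.1 < 12 ∧ p.2 < 12 ∧ p.2 ≠ p.1 ∧ p.2 ≠ chevG2.neg p.1 := by
  decide +kernel

theorem neg_comm {r s : ℕ} (h : (r, s) ∈ [(0, 1), (1, 6), (1, 0), (6, 1)]) (u t : F) :
    Commute (xs r u) (xs s t) := by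
  obtain ⟨h, hr, hs, h1, h2⟩ := com_neg _ h
  show _ = _
  rw [swap h hr hs h1 h2]
  simp

theorem adj_lower {A B : F} (h : A ≠ 0 ∨ B ≠ 0) : Adj (xs 1 A * xs 0 B) := by
  by_cases hA : A = 0
  · have hB : B ≠ 0 := h.resolve_left (not_not.2 hA)
    obtain ⟨σ, hσ, hc⟩ := conj_n (F := F) 1 (s := 1) (s' := 0) (by decide +kernel) (by norm_num)
    rw [hA, xs_zero, one_mul, show xs 0 B = nn 1 * xs 1 (B / σ) * (nn 1)⁻¹ by rw [hc, mul_div_cancel₀ _ hσ]]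
    exact ((adj_one (div_ne_zero hB hσ)).mul_left nn1_P3).mul_right (inv_mem nn1_P3)
  · have e := five_one (-B / A) A
    rw [show -(-B / A * A) = B by field_simp] at e
    rw [show xs 1 A * xs 0 B = xs 5 (-B / A) * xs 1 A * (xs 5 (-B / A))⁻¹ by rw [e, mul_inv_cancel_right]]
    exact ((adj_one hA).mul_left (xs_P3 (by decide) _)).mul_right (inv_mem (xs_P3 (by decide) _))

/-- The representatives of the cosets. -/
noncomputable def fam : (F × F) ⊕ Option F → Gr F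
  | .inl p => xs 1 p.1 * xs 0 p.2
  | .inr none => nE
  | .inr (some s) => xs 6 s * nn 1 * nE

theorem lower_inv (A B : F) : (xs 1 A * xs 0 B)⁻¹ = xs 1 (-A) * xs 0 (-B) := by
  rw [mul_inv_rev, ← xs_neg', ← xs_neg', (neg_comm (r := 0) (s := 1) (by decide) _ _).eq]

theorem adj_nE (A B : F) : Adj (xs 1 A * xs 0 B * nE) := by
  obtain ⟨a, ha0, ha⟩ := nE_ten (F := F)
  obtain ⟨b, hb0, hb⟩ := nE_five (F := F)
  have e : xs 1 A * xs 0 B * nE = nE * (xs 10 (A / a) * xs 5 (B / b)) := by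
    rw [show nE * (xs 10 (A / a) * xs 5 (B / b)) =
      (nE * xs 10 (A / a) * nE⁻¹) * (nE * xs 5 (B / b) * nE⁻¹) * nE from by group,
      ha, hb, mul_div_cancel₀ _ ha0, mul_div_cancel₀ _ hb0]
  rw [e]
  exact (show Adj (nE : Gr F) from ⟨1, one_mem _, 1, one_mem _, Or.inl (by group)⟩).mul_right
    (mul_mem (xs_P3 (by decide) _) (xs_P3 (by decide) _))

theorem adj_five {r : F} (hr : r ≠ 0) : Adj (nE⁻¹ * xs 5 r * nE) := by
  obtain ⟨σ, hσ, hc⟩ := nE_zero (F := F)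
  rw [show nE⁻¹ * xs 5 r * nE = xs 1 0 * xs 0 (r / σ) by
    rw [xs_zero, one_mul, show xs 5 r = nE * xs 0 (r / σ) * nE⁻¹ by rw [hc, mul_div_cancel₀ _ hσ]]
    group]
  exact adj_lower (Or.inr (div_ne_zero hr hσ))

theorem adj_nn1 (s : F) : Adj (nE⁻¹ * (xs 6 s * nn 1) * nE) := by
  obtain ⟨σ, hσ, hc⟩ := nE_eleven (F := F)
  have hsix : ∀ t, nE⁻¹ * xs 6 t * nE = xs 11 (t / σ) := fun t => by
    rw [show xs 6 t = nE * xs 11 (t / σ) * nE⁻¹ by rw [hc, mul_div_cancel₀ _ hσ]]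
    group
  rw [show nE⁻¹ * (xs 6 s * nn 1) * nE =
    (nE⁻¹ * xs 6 (s + 1) * nE) * (nE⁻¹ * xs 5 (-1) * nE) * (nE⁻¹ * xs 6 1 * nE) from by
      rw [nn1_eq, xs_add]; group, hsix, hsix]
  exact ((adj_five (neg_ne_zero.2 one_ne_zero)).mul_left (xs_P3 (by decide) _)).mul_right (xs_P3 (by decide) _)

theorem adj_fam {i j : (F × F) ⊕ Option F} (h : i ≠ j) : Adj ((fam i)⁻¹ * fam j) := by
  have hmix : ∀ (p : F × F) (o : Option F), Adj ((fam (.inl p))⁻¹ * fam (.inr o)) := by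
    rintro ⟨A, B⟩ (_ | s)
    · show Adj ((xs 1 A * xs 0 B)⁻¹ * nE)
      rw [lower_inv]; exact adj_nE _ _
    · show Adj ((xs 1 A * xs 0 B)⁻¹ * (xs 6 s * nn 1 * nE))
      obtain ⟨a, ha0, ha⟩ := conj_n (F := F) 1 (s := 0) (s' := 1) (by decide +kernel) (by norm_num)
      obtain ⟨b, hb0, hb⟩ := conj_n (F := F) 1 (s := 1) (s' := 0) (by decide +kernel) (by norm_num)
      have e1 : ∀ A B : F, xs 1 A * xs 0 B * nn 1 = nn 1 * (xs 1 (B / b) * xs 0 (A / a)) := fun A B => by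
        rw [show nn 1 * (xs 1 (B / b) * xs 0 (A / a)) =
          (nn 1 * xs 1 (B / b) * (nn 1)⁻¹) * (nn 1 * xs 0 (A / a) * (nn 1)⁻¹) * nn 1 from by group,
          hb, ha, mul_div_cancel₀ _ hb0, mul_div_cancel₀ _ ha0, (neg_comm (r := 0) (s := 1) (by decide) _ _).eq]
      have e2 : ∀ A B : F, xs 1 A * xs 0 B * xs 6 s = xs 6 s * (xs 1 (A + s * B) * xs 0 B) := fun A B => by
        have h0 := six_zero s B
        rw [(neg_comm (r := 0) (s := 1) (by decide) B _).eq, xs_neg', mul_assoc,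
          eq_inv_mul_iff_mul_eq] at h0
        rw [mul_assoc, ← h0, xs_add, ← mul_assoc (xs 6 s), ← mul_assoc (xs 6 s),
          (neg_comm (r := 6) (s := 1) (by decide) s A).eq]
        simp only [mul_assoc]
        rw [← mul_assoc (xs 1 (s * B)), ← (neg_comm (r := 6) (s := 1) (by decide) s (s * B)).eq, mul_assoc]
      rw [lower_inv, show xs 1 (-A) * xs 0 (-B) * (xs 6 s * nn 1 * nE) =
        xs 1 (-A) * xs 0 (-B) * xs 6 s * nn 1 * nE from by group, e2, mul_assoc (xs 6 s), e1]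
      rw [show xs 6 s * (nn 1 * (xs 1 (-B / b) * xs 0 ((-A + s * -B) / a))) * nE =
        (xs 6 s * nn 1) * (xs 1 (-B / b) * xs 0 ((-A + s * -B) / a) * nE) from by group]
      exact (adj_nE _ _).mul_left (mul_mem (xs_P3 (by decide) _) nn1_P3)
  rcases i with ⟨A, B⟩ | o <;> rcases j with ⟨A', B'⟩ | o'
  · show Adj ((xs 1 A * xs 0 B)⁻¹ * (xs 1 A' * xs 0 B'))
    rw [lower_inv, show xs 1 (-A) * xs 0 (-B) * (xs 1 A' * xs 0 B') =
      xs 1 (-A + A') * xs 0 (-B + B') by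
      rw [xs_add, xs_add, mul_assoc (xs 1 (-A)), ← mul_assoc (xs 0 (-B)),
        (neg_comm (r := 0) (s := 1) (by decide) _ _).eq]; group]
    refine adj_lower ?_
    by_contra hne
    push Not at hne
    exact h (by rw [neg_add_eq_zero.1 hne.1, neg_add_eq_zero.1 hne.2])
  · exact hmix _ _
  · rw [show (fam (Sum.inr o : (F × F) ⊕ Option F))⁻¹ * fam (.inl (A', B')) =
      ((fam (.inl (A', B')))⁻¹ * fam (.inr o))⁻¹ from by group]
    exact (hmix _ _).inv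
  · rcases o with _ | s <;> rcases o' with _ | s'
    · exact absurd rfl h
    · show Adj (nE⁻¹ * (xs 6 s' * nn 1 * nE))
      rw [← mul_assoc]; exact adj_nn1 s'
    · show Adj ((xs 6 s * nn 1 * nE)⁻¹ * nE)
      rw [show (xs 6 s * nn 1 * nE)⁻¹ * nE = (nE⁻¹ * (xs 6 s * nn 1) * nE)⁻¹ from by group]
      exact (adj_nn1 s).inv
    · show Adj ((xs 6 s * nn 1 * nE)⁻¹ * (xs 6 s' * nn 1 * nE))
      obtain ⟨σ, hσ, hc⟩ := conj_n' (F := F) 1 (s := 5) (s' := 6) (by decide +kernel) (by norm_num)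
      rw [show (xs 6 s * nn 1 * nE)⁻¹ * (xs 6 s' * nn 1 * nE) =
        nE⁻¹ * ((nn 1)⁻¹ * xs 6 (-s + s') * nn 1) * nE from by rw [xs_add, xs_neg']; group, hc]
      refine adj_five (mul_ne_zero hσ ?_)
      intro e
      exact h (by rw [neg_add_eq_zero.1 e])

end Cfsg.Agent.Small.GTwoDegree
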