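import Cfsg.Agent.Lib.Small.GTwoDegree.Proj

/-!
An invariant inner product of a representation of a finite group.
-/

set_option autoImplicit false
set_option linter.unusedSectionVars false

namespace Cfsg.Agent.Small.GTwoDegree

open Module Finset

variable {G : Type*} [Group G] [Fintype G] {V : Type*} [AddCommGroup V] [Module ℂ V] [FiniteDimensional ℂ V]
  (ρ : Representation ℂ G V)

/-- The invariant form. -/
noncomputable def form (v w : V) : ℂ :=
  ∑ g : G, ∑ i, (starRingEnd ℂ) ((finBasis ℂ V).repr (ρ g v) i) * (finBasis ℂ V).repr (ρ g w) i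

/-- The operators that are self-adjoint for the invariant form. -/
def SA (A : Module.End ℂ V) : Prop := ∀ v w, form ρ (A v) w = form ρ v (A w)

theorem form_conj (v w : V) : (starRingEnd ℂ) (form ρ w v) = form ρ v w := by
  simp only [form, map_sum, map_mul, Complex.conj_conj]
  exact Finset.sum_congr rfl fun g _ => Finset.sum_congr rfl fun i _ => mul_comm _ _

theorem form_apply (g : G) (v w : V) : form ρ (ρ g v) w = form ρ v (ρ g⁻¹ w) := by
  refine Fintype.sum_equiv (Equiv.mulRight g) _ _ fun x => ?_
  show _ = ∑ i, (starRingEnd ℂ) ((finBasis ℂ V).repr (ρ (x * g) v) i) *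
    (finBasis ℂ V).repr (ρ (x * g) (ρ g⁻¹ w)) i
  simp only [← Module.End.mul_apply, ← map_mul, mul_assoc, mul_inv_cancel, mul_one]

theorem form_pos (v : V) : 0 ≤ (form ρ v v).re := by
  simp only [form, Complex.re_sum]
  refine Finset.sum_nonneg fun g _ => Finset.sum_nonneg fun i _ => ?_
  rw [← Complex.normSq_eq_conj_mul_self, Complex.ofReal_re]
  exact Complex.normSq_nonneg _

theorem form_def (v : V) (h : form ρ v v = 0) : v = 0 := by
  have hre := congrArg Complex.re h
  simp only [form, Complex.re_sum, ← Complex.normSq_eq_conj_mul_self, Complex.ofReal_re, Complex.zero_re] at hre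
  rw [Finset.sum_eq_zero_iff_of_nonneg fun g _ => Finset.sum_nonneg fun i _ => Complex.normSq_nonneg _] at hre
  have h1 := hre 1 (Finset.mem_univ _)
  rw [Finset.sum_eq_zero_iff_of_nonneg fun i _ => Complex.normSq_nonneg _] at h1
  refine (finBasis ℂ V).repr.map_eq_zero_iff.1 (Finsupp.ext fun i => ?_)
  have := Complex.normSq_eq_zero.1 (h1 i (Finset.mem_univ _))
  simpa using this

/-- The inner product. -/
noncomputable abbrev core : InnerProductSpace.Core ℂ V where
  inner := form ρ
  conj_inner_symm := form_conj ρ
  re_inner_nonneg := form_pos ρ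
  add_left x y z := by
    simp only [form, map_add, Finsupp.add_apply, add_mul, Finset.sum_add_distrib]
  smul_left x y r := by
    simp only [form, map_smul, Finsupp.smul_apply, smul_eq_mul, map_mul, Finset.mul_sum, mul_assoc]
  definite := form_def ρ

theorem SA.eq_zero {A : Module.End ℂ V} (h : SA ρ A) (ht : LinearMap.trace ℂ V (A * A) = 0) : A = 0 := by
  let := (core ρ).toNormedAddCommGroup
  let : InnerProductSpace ℂ V := InnerProductSpace.ofCore (core ρ).toCore
  let b := stdOrthonormalBasis ℂ V
  rw [LinearMap.trace_eq_sum_inner (A * A) b] at ht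
  have hi : ∀ i, inner ℂ (b i) ((A * A) (b i)) = inner ℂ (A (b i)) (A (b i)) :=
    fun i => (h (b i) (A (b i))).symm
  rw [Finset.sum_congr rfl fun i _ => hi i] at ht
  have hre := congrArg Complex.re ht
  simp only [Complex.re_sum, Complex.zero_re] at hre
  have hn : ∀ i, 0 ≤ (inner ℂ (A (b i)) (A (b i))).re := fun i => inner_self_nonneg (𝕜 := ℂ)
  rw [Finset.sum_eq_zero_iff_of_nonneg fun i _ => hn i] at hre
  refine b.toBasis.ext fun i => ?_
  rw [LinearMap.zero_apply, OrthonormalBasis.coe_toBasis]
  refine inner_self_eq_zero.1 (?_ : inner ℂ (A (b i)) (A (b i)) = 0)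
  apply Complex.ext
  · simpa using hre i (Finset.mem_univ _)
  · exact inner_self_im (𝕜 := ℂ) (A (b i))

variable {ρ}

theorem form_smul_left (c : ℂ) (v w : V) : form ρ (c • v) w = (starRingEnd ℂ) c * form ρ v w :=
  (core ρ).smul_left v w c

theorem form_smul_right (c : ℂ) (v w : V) : form ρ v (c • w) = c * form ρ v w := by
  rw [← form_conj, form_smul_left, map_mul, Complex.conj_conj, form_conj]

theorem form_add_left (u v w : V) : form ρ (u + v) w = form ρ u w + form ρ v w := (core ρ).add_left u v w

theorem form_add_right (u v w : V) : form ρ u (v + w) = form ρ u v + form ρ u w := by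
  rw [← form_conj, form_add_left, map_add, form_conj, form_conj]

theorem form_sum_left {ι : Type*} (s : Finset ι) (f : ι → V) (w : V) :
    form ρ (∑ i ∈ s, f i) w = ∑ i ∈ s, form ρ (f i) w := by
  classical
  induction s using Finset.induction_on with
  | empty => simp [form]
  | insert a s ha ih => rw [Finset.sum_insert ha, Finset.sum_insert ha, form_add_left, ih]

theorem form_sum_right {ι : Type*} (s : Finset ι) (f : ι → V) (w : V) :
    form ρ w (∑ i ∈ s, f i) = ∑ i ∈ s, form ρ w (f i) := by
  rw [← form_conj, form_sum_left, map_sum]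
  exact Finset.sum_congr rfl fun i _ => form_conj ρ _ _

theorem SA.mul {A B : Module.End ℂ V} (hA : SA ρ A) (hB : SA ρ B) (h : Commute A B) : SA ρ (A * B) :=
  fun v w => by rw [Module.End.mul_apply, hA, hB, ← Module.End.mul_apply, ← h.eq]

theorem SA.conj {A : Module.End ℂ V} (hA : SA ρ A) (g : G) : SA ρ (ρ g * A * ρ g⁻¹) := fun v w => by
  simp only [Module.End.mul_apply]
  rw [form_apply, hA, form_apply, inv_inv]

theorem SA.sum {ι : Type*} (s : Finset ι) {A : ι → Module.End ℂ V} (h : ∀ i ∈ s, SA ρ (A i)) :
    SA ρ (∑ i ∈ s, A i) := fun v w => by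
  simp only [LinearMap.sum_apply]
  rw [form_sum_left, form_sum_right]
  exact Finset.sum_congr rfl fun i hi => h i hi v w

theorem SA.sub_scalar {A : Module.End ℂ V} (hA : SA ρ A) {c : ℂ} (hc : (starRingEnd ℂ) c = c) :
    SA ρ (A - c • 1) := fun v w => by
  simp only [sub_eq_add_neg, LinearMap.add_apply, ← neg_smul, LinearMap.smul_apply, Module.End.one_apply,
    form_add_left, form_add_right, form_smul_left, form_smul_right, hA v w, map_neg, hc]

/-- An operator of the group fixed by both sides of a self-adjoint projection fixes its range. -/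
theorem fixed_of_sandwich {R : Module.End ℂ V} (hR : SA ρ R) (hR2 : R * R = R) (g : G)
    (h : R * ρ g * R = R) : ρ g * R = R := by
  refine LinearMap.ext fun x => ?_
  have e1 : form ρ (R x) ((ρ g * R) x) = form ρ (R x) (R x) := by
    rw [Module.End.mul_apply, hR x, ← Module.End.mul_apply, ← Module.End.mul_apply, h,
      hR x, ← Module.End.mul_apply, hR2]
  have e2 : form ρ ((ρ g * R) x) ((ρ g * R) x) = form ρ (R x) (R x) := by
    rw [Module.End.mul_apply, form_apply, ← Module.End.mul_apply, ← map_mul, inv_mul_cancel, map_one]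
    rfl
  have e3 : form ρ ((ρ g * R) x) (R x) = form ρ (R x) (R x) := by rw [← form_conj, e1, form_conj]
  have h0 : form ρ ((ρ g * R) x - R x) ((ρ g * R) x - R x) = 0 := by
    simp only [sub_eq_add_neg, ← neg_one_smul ℂ (R x), form_add_left, form_add_right, form_smul_left,
      form_smul_right, e1, e2, e3, map_neg, map_one]
    ring
  exact sub_eq_zero.1 (form_def ρ _ h0)

end Cfsg.Agent.Small.GTwoDegree
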