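import Cfsg.Agent.Lib.Small.GTwoDegree.Count
import Cfsg.Agent.Lib.Small.GTwoDegree.Geom
import Cfsg.Agent.Lib.Small.GTwoDegree.Unitary

/-!
For q ≡ 1 (mod 3) the degrees q³-1 and q³ do not occur: the translates of the fixed space of a maximal
parabolic subgroup under the long root SL₃ fill the space, so its centre would act by scalars.
-/

set_option autoImplicit false
set_option linter.unusedSectionVars false

namespace Cfsg.Agent.Small.GTwoDegree

open Cfsg.Lie Cfsg.Agent.Lie Module Finset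

variable {F : Type*} [Field F] [Fintype F] {V : Type*} [AddCommGroup V] [Module ℂ V] [FiniteDimensional ℂ V]
variable (ρ : Representation ℂ (Gr F) V)

local notation "q" => Fintype.card F

theorem rho_inv (g : Gr F) : ρ g * ρ g⁻¹ = 1 ∧ ρ g⁻¹ * ρ g = 1 := by
  rw [← map_mul, ← map_mul, mul_inv_cancel, inv_mul_cancel, map_one]
  exact ⟨rfl, rfl⟩

theorem PP_X11 (t : F) : PP ρ * X ρ 11 t = PP ρ := by rw [PP, mul_assoc, E_X]

theorem PP_X10 (t : F) : PP ρ * X ρ 10 t = PP ρ := by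
  rw [PP, (E_comm ρ (r := 10) (s := 11) (by decide) 0 0).eq, mul_assoc, E_X]

theorem X5_PP (t : F) : Commute (X ρ 5 t) (PP ρ) := by
  obtain ⟨σ, hσ, hm⟩ := nn_to (F := F) 1 (s := 6) (s' := 5) (by decide +kernel) (by norm_num)
  have hx : ρ (nn 1) * X ρ 6 (t / σ) = X ρ 5 t * ρ (nn 1) := by
    rw [X, X, ← map_mul, hm, map_mul, mul_div_cancel₀ _ hσ]
  have e1 := move_mul hx (nn1_PP ρ)
  have e2 := move_mul (nn1_PP ρ) hx
  rw [(X6_PP ρ (t / σ)).eq, e2] at e1
  exact ((u ρ (nn 1)).mul_left_inj.1 e1).symm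

theorem P3_PP {a : Gr F} (ha : a ∈ P3 F) : Commute (ρ a) (PP ρ) := by
  induction ha using Subgroup.closure_induction with
  | mem g hg =>
    rcases hg with (⟨r, hr, t, rfl⟩ | ⟨p, rfl⟩) | rfl
    · simp only [List.mem_cons, List.not_mem_nil, or_false] at hr
      rcases hr with rfl | rfl | rfl | rfl
      · exact X5_PP ρ t
      · exact X6_PP ρ t
      · exact (X10_PP ρ t).trans (PP_X10 ρ t).symm
      · exact (X11_PP ρ t).trans (PP_X11 ρ t).symm
    · exact tor_PP ρ p.1 p.2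
    · exact nn1_PP ρ
  | one => rw [map_one]; exact Commute.one_left _
  | mul a b _ _ ha hb => rw [map_mul]; exact ha.mul_left hb
  | inv a _ ha =>
    show ρ a⁻¹ * PP ρ = PP ρ * ρ a⁻¹
    calc ρ a⁻¹ * PP ρ = ρ a⁻¹ * (PP ρ * ρ a) * ρ a⁻¹ := by
          rw [mul_assoc, mul_assoc (PP ρ), (rho_inv ρ a).1, mul_one]
      _ = ρ a⁻¹ * (ρ a * PP ρ) * ρ a⁻¹ := by rw [ha.eq]
      _ = PP ρ * ρ a⁻¹ := by rw [← mul_assoc, (rho_inv ρ a).2, one_mul]

theorem tor_comm (κ lam κ' lam' : Fˣ) : Commute (tor κ lam) (tor κ' lam') :=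
  Subtype.ext (((Commute.all (cv κ lam) (cv κ' lam')).map (Cfsg.Agent.Lie.torus chevG2 F)).eq)

theorem X_tor (κ lam : Fˣ) {s : ℕ} (hs : s ∈ [7, 6, 8, 9, 10, 11, 5, 4, 1, 0]) (h : wt κ lam s = 1) (t : F) :
    Commute (tor κ lam) (xs s t) := by
  show _ = _
  rw [tor_x κ lam hs, h, Units.val_one, one_mul]

theorem nE_tor {κ lam : Fˣ} (h10 : wt κ lam 10 = 1) (h1 : wt κ lam 1 = 1) : Commute (tor κ lam) (nE : Gr F) := by
  obtain ⟨a, -, ha⟩ := conj_n (F := F) 0 (s := 6) (s' := 10) (by decide +kernel) (by norm_num)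
  obtain ⟨b, -, hb⟩ := conj_n (F := F) 0 (s := 5) (s' := 1) (by decide +kernel) (by norm_num)
  have e : (nE : Gr F) = xs 10 (a * 1) * xs 1 (b * -1) * xs 10 (a * 1) := by
    rw [← ha, ← hb, nE, nn1_eq]
    simp only [mul_assoc, inv_mul_cancel_left]
  rw [e]
  exact (((X_tor κ lam (by decide) h10 _).mul_right (X_tor κ lam (by decide) h1 _)).mul_right
    (X_tor κ lam (by decide) h10 _))

/-- An element of the nontrivial double coset compresses to the line fixed by the Borel subgroup. -/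
theorem squeeze {g : Gr F} (h1 : ∀ t, ∃ t', xs 6 t * g = g * xs 11 t')
    (h2 : ∀ t, ∃ t', g * xs 6 t = xs 11 t' * g) :
    PP ρ * ρ g * PP ρ = P0 ρ * ρ g * P0 ρ := by
  set Y := PP ρ * ρ g * PP ρ with hY
  have hl : Ek ρ 6 0 * Y = Y := (isRep ρ 6).E_zero_mul fun t => by
    obtain ⟨t', ht⟩ := h1 t
    rw [hY, ← mul_assoc, ← mul_assoc, (X6_PP ρ t).eq, mul_assoc (PP ρ), X, ← map_mul, ht, map_mul]
    simp only [mul_assoc]
    rw [show ρ (xs 11 t') * PP ρ = PP ρ from X11_PP ρ t']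
  have hr : Y * Ek ρ 6 0 = Y := by
    rw [Ek, E, mul_smul_comm, Finset.mul_sum]
    have : ∀ t, Y * (psi F (-(0 * t)) • X ρ 6 t) = Y := fun t => by
      obtain ⟨t', ht⟩ := h2 t
      rw [zero_mul, neg_zero, AddChar.map_zero_eq_one, one_smul, hY, mul_assoc, ← (X6_PP ρ t).eq, ← mul_assoc,
        mul_assoc (PP ρ) (ρ g), X, ← map_mul, ht, map_mul, ← mul_assoc,
        show PP ρ * ρ (xs 11 t') = PP ρ from PP_X11 ρ t']
    rw [Finset.sum_congr rfl fun t _ => this t, Finset.sum_const, Finset.card_univ,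
      ← Nat.cast_smul_eq_nsmul ℂ, smul_smul, inv_mul_cancel₀ (q_ne F), one_smul]
  calc Y = Ek ρ 6 0 * Y * Ek ρ 6 0 := by rw [hl, hr]
    _ = _ := by
      rw [hY, P0]
      simp only [mul_assoc]
      rw [← (E6_PP ρ 0).eq]

theorem squeeze_nE : PP ρ * ρ nE * PP ρ = P0 ρ * ρ nE * P0 ρ := by
  obtain ⟨a, ha0, ha⟩ := nE_six (F := F)
  obtain ⟨b, hb0, hb⟩ := nE_eleven (F := F)
  refine squeeze ρ (fun t => ⟨t / b, ?_⟩) (fun t => ⟨a * t, ?_⟩)
  · rw [show xs 6 t = nE * xs 11 (t / b) * nE⁻¹ by rw [hb, mul_div_cancel₀ _ hb0]]; group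
  · rw [← ha]; group

theorem squeeze_nE' : PP ρ * ρ nE⁻¹ * PP ρ = P0 ρ * ρ nE⁻¹ * P0 ρ := by
  obtain ⟨a, ha0, ha⟩ := nE_six (F := F)
  obtain ⟨b, hb0, hb⟩ := nE_eleven (F := F)
  refine squeeze ρ (fun t => ⟨a * t, ?_⟩) (fun t => ⟨t / b, ?_⟩)
  · rw [← ha]; group
  · rw [show xs 6 t = nE * xs 11 (t / b) * nE⁻¹ by rw [hb, mul_div_cancel₀ _ hb0]]; group

theorem trace_adj {a b : Gr F} (ha : a ∈ P3 F) (hb : b ∈ P3 F) (g : Gr F) :
    LinearMap.trace ℂ V (PP ρ * ρ (a * g * b) * PP ρ * ρ (a * g * b)⁻¹) =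
      LinearMap.trace ℂ V (PP ρ * ρ g * PP ρ * ρ g⁻¹) := by
  have e : PP ρ * ρ (a * g * b) * PP ρ * ρ (a * g * b)⁻¹ = ρ a * (PP ρ * ρ g * PP ρ * ρ g⁻¹) * ρ a⁻¹ := by
    rw [mul_inv_rev, mul_inv_rev, map_mul ρ, map_mul ρ, map_mul ρ, map_mul ρ]
    simp only [← mul_assoc]
    rw [← (P3_PP ρ ha).eq, mul_assoc (ρ a * PP ρ * ρ g) (ρ b) (PP ρ), (P3_PP ρ hb).eq]
    simp only [← mul_assoc]
    rw [mul_assoc (ρ a * PP ρ * ρ g * PP ρ) (ρ b) (ρ b⁻¹), (rho_inv ρ b).1, mul_one]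
  rw [e, LinearMap.trace_mul_comm, ← mul_assoc, (rho_inv ρ a).2, one_mul]

variable {ρ} (h : Good ρ) (S : AtMost ρ)
include h S

theorem P0_line {t : F} (hR : rk (P0 ρ) = 1) (hc : ∀ t, Commute (X ρ 5 t) (P0 ρ)) :
    X ρ 5 t * P0 ρ = P0 ρ := by
  classical
  refine (isRep ρ 5).eq_one_of (fun a ha => rk_zero_iff.1 ?_) t
  by_contra hne
  change ¬ rk (Ek ρ 5 a * P0 ρ) = 0 at hne
  obtain ⟨κ, hκ⟩ := exists_pow_ne h (n := 1) one_pos (by norm_num)
  rw [pow_one] at hκ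
  have hm : rk (Ek ρ 5 a * P0 ρ) = rk (Ek ρ 5 (a / κ) * P0 ρ) := by
    refine rk_move ρ (tor κ κ) (idem_mul (E_idem' ρ 5 a) (P0_idem ρ)
      (E_commute (fun x => (hc x).symm) a).symm) ?_
    rw [P0, move_mul (tor_E ρ κ κ (by decide) a) (move_mul (tor_E0 ρ κ κ (by decide)) (tor_PP ρ κ κ))]
    congr 4
    simp only [wt, ← zpow_add, show (3 : ℤ) + -2 = 1 by norm_num, zpow_one]
  have hne' : a ≠ a / (κ : F) := fun e => hκ (by
    rw [eq_div_iff κ.ne_zero, mul_eq_left₀ ha] at e; exact e)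
  have hsum := sum_rk' ρ 5 (P0_idem ρ) hc
  have h2 : ∑ b ∈ ({a, a / (κ : F)} : Finset F), rk (Ek ρ 5 b * P0 ρ) ≤ rk (P0 ρ) := by
    rw [← hsum]; exact Finset.sum_le_sum_of_subset (Finset.subset_univ _)
  rw [Finset.sum_pair hne', ← hm, hR] at h2
  omega

theorem scalar_on_PP {Y : Module.End ℂ V} (h6 : ∀ t, Commute Y (X ρ 6 t)) (h5 : ∀ t, Commute Y (X ρ 5 t))
    (hP : Commute Y (PP ρ)) (hT : ∀ κ : Fˣ, Commute Y (ρ (tor κ κ))) : ∃ μ : ℂ, Y * PP ρ = μ • PP ρ := by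
  classical
  set Z : F → Module.End ℂ V := fun β => Ek ρ 6 β * PP ρ with hZ
  have hZi : ∀ β, Z β * Z β = Z β := fun β => idem_mul (E_idem' ρ 6 β) (PP_idem ρ) (E6_PP ρ β)
  have hYZ : ∀ β, Commute Y (Z β) := fun β => (E_commute h6 β).mul_right hP
  obtain ⟨μ, hμ⟩ := exists_scalar (S.line 1 one_ne_zero) (hZi 1) (hYZ 1).eq
  have hall : ∀ β, β ≠ 0 → Y * Z β = μ • Z β := by
    intro β hβ
    have hg : ρ (tor (Units.mk0 β hβ) (Units.mk0 β hβ)) * Z 1 =
        Z β * ρ (tor (Units.mk0 β hβ) (Units.mk0 β hβ)) := by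
      rw [hZ, move_mul (tor_E ρ _ _ (by decide) 1) (tor_PP ρ _ _)]
      congr 3
      simp only [wt, ← zpow_add, Units.val_zpow_eq_zpow_val, Units.val_mk0]
      simp
    refine (u ρ (tor (Units.mk0 β hβ) (Units.mk0 β hβ))).mul_left_inj.1 ?_
    show Y * Z β * ρ _ = μ • Z β * ρ _
    rw [mul_assoc, ← hg, ← mul_assoc, (hT _).eq, mul_assoc, hμ, mul_smul_comm, hg, smul_mul_assoc]
  have hsumZ : ∑ β : F, Z β = PP ρ := by rw [hZ, ← Finset.sum_mul, show ∑ β : F, Ek ρ 6 β = 1 from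
    (isRep ρ 6).sum_E, one_mul]
  have hsplit : Y * PP ρ = μ • PP ρ + (Y * P0 ρ - μ • P0 ρ) := by
    conv_lhs => rw [← hsumZ]
    rw [Finset.mul_sum, ← Finset.sum_erase_add _ _ (Finset.mem_univ (0 : F)),
      Finset.sum_congr rfl fun β hβ => hall β (Finset.ne_of_mem_erase hβ), ← Finset.smul_sum,
      Finset.sum_erase_eq_sub (Finset.mem_univ _), hsumZ, smul_sub]
    show _ - μ • P0 ρ + Y * P0 ρ = _
    abel
  rcases Nat.eq_or_lt_of_le S.le_one with h1 | h0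
  swap
  · refine ⟨μ, ?_⟩
    rw [hsplit, rk_zero_iff.1 (by omega : rk (P0 ρ) = 0), mul_zero, smul_zero, sub_zero, add_zero]
  obtain ⟨ν, hν⟩ := exists_scalar h1 (P0_idem ρ) (hYZ 0).eq
  refine ⟨μ, ?_⟩
  by_cases e : ν = μ
  · rw [hsplit, hν, e, sub_self, add_zero]
  exfalso
  have hR : P0 ρ = (ν - μ)⁻¹ • (Y * PP ρ - μ • PP ρ) := by
    rw [hsplit, hν, add_sub_cancel_left, ← sub_smul, smul_smul, inv_mul_cancel₀ (sub_ne_zero.2 e), one_smul]
  have hc : ∀ t, Commute (X ρ 5 t) (P0 ρ) := fun t => by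
    rw [hR]
    exact (((h5 t).symm.mul_right (X5_PP ρ t)).sub_right ((X5_PP ρ t).smul_right _)).smul_right _
  have := P0_fixed h S.fixA fun t => P0_line h S h1 hc
  rw [this, rk_zero_iff.2 rfl] at h1
  exact zero_ne_one h1

theorem compress : ∃ τ : ℂ, (∀ g, Adj g → LinearMap.trace ℂ V (PP ρ * ρ g * PP ρ * ρ g⁻¹) = τ) ∧
    ((rk (P0 ρ) = 0 → τ = 0) ∧ (rk (P0 ρ) = 1 → τ = ((q : ℂ) ^ 2)⁻¹)) := by
  classical
  refine ⟨LinearMap.trace ℂ V (PP ρ * ρ nE * PP ρ * ρ nE⁻¹), fun g hg => ?_, fun h0 => ?_, fun h1 => ?_⟩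
  · obtain ⟨a, ha, b, hb, hg | hg⟩ := hg <;> subst hg
    · exact trace_adj ρ ha hb _
    · rw [trace_adj ρ ha hb, inv_inv, mul_assoc (PP ρ * ρ nE⁻¹), LinearMap.trace_mul_comm, ← mul_assoc]
  · rw [squeeze_nE, rk_zero_iff.1 h0]; simp
  set R := P0 ρ with hR
  have hRR : R * R = R := P0_idem ρ
  have hne : R ≠ 0 := fun e => by rw [e, rk_zero_iff.2 rfl] at h1; exact zero_ne_one h1
  have hsand : ∀ A : Module.End ℂ V, ∃ μ : ℂ, R * A * R = μ • R := fun A => by
    obtain ⟨μ, hμ⟩ := exists_scalar h1 hRR (Y := R * A * R)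
      (by rw [mul_assoc (R * A), hRR, ← mul_assoc R, ← mul_assoc R, hRR])
    exact ⟨μ, by rw [← hμ, mul_assoc (R * A), hRR]⟩
  choose v hv using hsand
  have htor : ∀ κ : Fˣ, Commute (ρ (tor κ κ)) R := fun κ =>
    move_mul (tor_E0 ρ κ κ (by decide)) (tor_PP ρ κ κ)
  have hu : ∀ s : F, s ≠ 0 → v (X ρ 5 s) = v (X ρ 5 1) := fun s hs => by
    refine scalar_unique hne ?_
    rw [← hv, ← hv]
    refine (u ρ (tor (Units.mk0 s hs) (Units.mk0 s hs))).mul_left_inj.1 ?_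
    show R * X ρ 5 s * R * ρ _ = R * X ρ 5 1 * R * ρ _
    have hx : ρ (tor (Units.mk0 s hs) (Units.mk0 s hs)) * X ρ 5 1 =
        X ρ 5 s * ρ (tor (Units.mk0 s hs) (Units.mk0 s hs)) := by
      rw [X, X, ← map_mul, tor_x _ _ (by decide), map_mul]
      congr 3
      simp only [wt, ← zpow_add, Units.val_zpow_eq_zpow_val, Units.val_mk0, mul_one]
      norm_num
    rw [mul_assoc _ R, ← (htor _).eq, ← mul_assoc, mul_assoc R (X ρ 5 s), ← hx]
    have hs1 : Commute (ρ (tor (Units.mk0 s hs) (Units.mk0 s hs))) (R * X ρ 5 1 * R) := by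
      rw [hv]; exact (htor _).smul_right _
    rw [← hs1.eq]
    simp only [mul_assoc]
    rw [← mul_assoc R (ρ _), ← (htor _).eq]
    simp only [mul_assoc]
  set c := v (X ρ 5 1) with hc
  have h6 : ∀ x, R * X ρ 6 x = R ∧ X ρ 6 x * R = R := fun x =>
    ⟨by rw [hR, P0, (E6_PP ρ 0).eq, mul_assoc, E_X], by rw [hR, P0, ← mul_assoc, X_E]⟩
  have hn : R * ρ (nn 1) * R = c • R ∧ R * ρ (nn 1)⁻¹ * R = c • R := by
    constructor
    · rw [nn1_eq, map_mul, map_mul]
      show R * (X ρ 6 1 * X ρ 5 (-1) * X ρ 6 1) * R = _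
      rw [← mul_assoc, ← mul_assoc, (h6 1).1, mul_assoc (R * X ρ 5 (-1)), (h6 1).2, hv,
        hu _ (neg_ne_zero.2 one_ne_zero)]
    · rw [nn1_eq, mul_inv_rev, mul_inv_rev, ← xs_neg', ← xs_neg', neg_neg, map_mul, map_mul]
      show R * (X ρ 6 (-1) * (X ρ 5 1 * X ρ 6 (-1))) * R = _
      rw [← mul_assoc, ← mul_assoc, (h6 _).1, mul_assoc (R * X ρ 5 1), (h6 _).2, hv]
  have hPR : PP ρ * R = R := by
    rw [hR, P0, ← mul_assoc, ← (E6_PP ρ 0).eq, mul_assoc, PP_idem]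
  have hquad : (q : ℂ) * c ^ 2 = 1 + ((q : ℂ) - 1) * c := by
    have h1' : R * ρ (nn 1) * R * ρ (nn 1)⁻¹ * R = R * Ek ρ 5 0 * R := by
      rw [mul_assoc R (ρ (nn 1)), show ρ (nn 1) * R = Ek ρ 5 0 * PP ρ * ρ (nn 1) from
        move_mul (nn_E0 ρ 1 (s := 6) (s' := 5) (by decide +kernel) (by norm_num)) (nn1_PP ρ)]
      simp only [mul_assoc]
      rw [← mul_assoc (ρ (nn 1)), (rho_inv ρ (nn 1)).1, one_mul, hPR]
    have h2 : R * Ek ρ 5 0 * R = ((q : ℂ)⁻¹ * (1 + ((q : ℂ) - 1) * c)) • R := by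
      rw [Ek, E, mul_smul_comm, smul_mul_assoc, Finset.mul_sum, Finset.sum_mul]
      simp only [zero_mul, neg_zero, AddChar.map_zero_eq_one, one_smul]
      rw [← Finset.sum_erase_add _ _ (Finset.mem_univ (0 : F)),
        Finset.sum_congr rfl fun s hs => (hv (X ρ 5 s)).trans
          (congrArg (· • R) (hu s (Finset.ne_of_mem_erase hs))),
        Finset.sum_const, Finset.card_erase_of_mem (Finset.mem_univ _), Finset.card_univ,
        (isRep ρ 5).zero, mul_one, hRR, ← Nat.cast_smul_eq_nsmul ℂ, smul_smul,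
        Nat.cast_sub Fintype.card_pos, Nat.cast_one]
      module
    rw [hn.1, smul_mul_assoc, smul_mul_assoc, hn.2, smul_smul, h2] at h1'
    rw [sq, scalar_unique hne h1', ← mul_assoc, mul_inv_cancel₀ (q_ne F), one_mul]
  have hc1 : c ≠ 1 := by
    intro e
    have : Fintype (Gr F) := Fintype.ofFinite _
    have hR' : SA ρ R := by
      have hE : ∀ r, SA ρ (Ek ρ r 0) := fun r a b => by
        simp only [Ek, E, zero_mul, neg_zero, AddChar.map_zero_eq_one, one_smul, LinearMap.smul_apply,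
          LinearMap.sum_apply, form_smul_left, form_smul_right, form_sum_left, form_sum_right,
          map_inv₀, map_natCast]
        congr 1
        refine Fintype.sum_equiv (Equiv.neg F) _ _ fun t => ?_
        rw [Equiv.neg_apply, X, X, form_apply, ← xs_neg']
      exact (hE 6).mul ((hE 10).mul (hE 11) (E_comm ρ (by decide) 0 0)) (E6_PP ρ 0)
    have hfix : ∀ s, X ρ 5 s * R = R := fun s => by
      by_cases hs : s = 0
      · rw [hs, (isRep ρ 5).zero, one_mul]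
      · refine fixed_of_sandwich hR' hRR (xs 5 s) ?_
        show R * X ρ 5 s * R = R
        rw [hv, hu s hs, e, one_smul]
    exact hne (P0_fixed h S.fixA hfix)
  have hcval : c ^ 2 = ((q : ℂ) ^ 2)⁻¹ := by
    have : ((q : ℂ) * c + 1) * (c - 1) = 0 := by linear_combination hquad
    rcases mul_eq_zero.1 this with e | e
    · have : c = -(q : ℂ)⁻¹ := by field_simp [q_ne F]; linear_combination e
      rw [this, neg_sq, inv_pow]
    · exact absurd (sub_eq_zero.1 e) hc1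
  obtain ⟨θ, hθ⟩ := exists_scalar h1 hRR (nn0_P0 ρ)
  have hθ' : θ • (ρ (nn 0)⁻¹ * R) = R := by
    rw [← mul_smul_comm, ← hθ, ← mul_assoc, (rho_inv ρ (nn 0)).2, one_mul]
  have hθ0 : θ ≠ 0 := fun e => hne (by rw [← hθ', e, zero_smul])
  have hi : ρ (nn 0)⁻¹ * R = θ⁻¹ • R := by
    conv_rhs => rw [← hθ']
    rw [smul_smul, inv_mul_cancel₀ hθ0, one_smul]
  have hnE : ∀ g, R * ρ (nn 0 * g * (nn 0)⁻¹) * R = R * ρ g * R := fun g => by
    rw [map_mul, map_mul]
    simp only [← mul_assoc]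
    rw [show R * ρ (nn 0) = θ • R by rw [hR, ← nn0_P0, ← hR, hθ], smul_mul_assoc, smul_mul_assoc,
      smul_mul_assoc, mul_assoc (R * ρ g), hi, mul_smul_comm, smul_smul, mul_inv_cancel₀ hθ0, one_smul]
  have hinv : (nE : Gr F)⁻¹ = nn 0 * (nn 1)⁻¹ * (nn 0)⁻¹ := by simp only [nE]; group
  calc LinearMap.trace ℂ V (PP ρ * ρ nE * PP ρ * ρ nE⁻¹)
      = LinearMap.trace ℂ V ((PP ρ * ρ nE * PP ρ) * (PP ρ * ρ nE⁻¹ * PP ρ)) := by
        simp only [← mul_assoc]
        rw [mul_assoc _ (PP ρ) (PP ρ), PP_idem]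
        conv_rhs => rw [LinearMap.trace_mul_comm]
        simp only [← mul_assoc, PP_idem]
    _ = LinearMap.trace ℂ V ((c * c) • R) := by
        rw [squeeze_nE, squeeze_nE', hinv, ← hR, show (nE : Gr F) = nn 0 * nn 1 * (nn 0)⁻¹ from rfl,
          hnE, hnE, hn.1, hn.2, smul_mul_smul_comm, hRR]
    _ = ((q : ℂ) ^ 2)⁻¹ := by
        rw [map_smul, ← rk_trace hRR, h1, Nat.cast_one, smul_eq_mul, mul_one, ← sq, hcval]

theorem not_atMost (hq : q % 3 = 1) : False := by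
  classical
  have : Fintype (Gr F) := Fintype.ofFinite _
  have hq5 := h.card
  obtain ⟨τ, hτ, hτ0, hτ1⟩ := compress h S
  set P : (F × F) ⊕ Option F → Module.End ℂ V := fun i => ρ (fam i) * PP ρ * ρ (fam i)⁻¹ with hP
  set M := ∑ i, P i with hM
  have hrkP : rk (PP ρ) = q - 1 + rk (P0 ρ) := by
    rw [← sum_rk' ρ 6 (PP_idem ρ) (X6_PP ρ), ← Finset.sum_erase_add _ _ (Finset.mem_univ (0 : F)),
      Finset.sum_congr rfl fun β hβ => S.line β (Finset.ne_of_mem_erase hβ)]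
    simp [P0]
  have hPi : ∀ i, P i * P i = P i := fun i => by
    simp only [hP, mul_assoc]
    rw [← mul_assoc (ρ (fam i)⁻¹), (rho_inv ρ _).2, one_mul, ← mul_assoc (PP ρ), PP_idem]
  have htr : ∀ i, LinearMap.trace ℂ V (P i) = (rk (PP ρ) : ℂ) := fun i => by
    rw [rk_trace (PP_idem ρ), hP, LinearMap.trace_mul_comm, ← mul_assoc, (rho_inv ρ _).2, one_mul]
  have hpair : ∀ i j, i ≠ j → LinearMap.trace ℂ V (P i * P j) = τ := fun i j hij => by
    rw [← hτ _ (adj_fam hij), mul_inv_rev, inv_inv, map_mul ρ, map_mul ρ]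
    simp only [hP, mul_assoc]
    rw [LinearMap.trace_mul_comm]
    simp only [mul_assoc]
  have hN : (Finset.univ : Finset ((F × F) ⊕ Option F)).card = q ^ 2 + q + 1 := by
    simp [sq, Nat.add_assoc]
  obtain ⟨lam, hlam, hscal⟩ : ∃ lam : ℂ, lam ≠ 0 ∧ M = lam • 1 := by
    rcases Nat.eq_or_lt_of_le S.le_one with h1 | h0
    · have hdim : finrank ℂ V = q ^ 3 := by have := S.deg; omega
      have hrk : rk (PP ρ) = q := by omega
      set lam : ℂ := ((q ^ 2 + q + 1 : ℕ) : ℂ) / (q : ℂ) ^ 2 with hl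
      refine ⟨lam, div_ne_zero (Nat.cast_ne_zero.2 (by positivity)) (pow_ne_zero _ (q_ne F)), ?_⟩
      have hE : ∀ r, SA ρ (Ek ρ r 0) := fun r a b => by
        simp only [Ek, E, zero_mul, neg_zero, AddChar.map_zero_eq_one, one_smul, LinearMap.smul_apply,
          LinearMap.sum_apply, form_smul_left, form_smul_right, form_sum_left, form_sum_right,
          map_inv₀, map_natCast]
        congr 1
        refine Fintype.sum_equiv (Equiv.neg F) _ _ fun t => ?_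
        rw [Equiv.neg_apply, X, X, form_apply, ← xs_neg']
      have hSA : SA ρ M := SA.sum _ fun i _ =>
        ((hE 10).mul (hE 11) (E_comm ρ (by decide) 0 0)).conj (fam i)
      have hl' : (starRingEnd ℂ) lam = lam := by rw [hl, map_div₀, map_pow, map_natCast, map_natCast]
      refine sub_eq_zero.1 (SA.eq_zero ρ (hSA.sub_scalar hl') ?_)
      have hsq : ∀ i, ∑ j, LinearMap.trace ℂ V (P i * P j) = (q : ℂ) + ((q : ℂ) ^ 2 + q) * τ := fun i => by
        rw [← Finset.add_sum_erase _ _ (Finset.mem_univ i), hPi, htr, hrk,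
          Finset.sum_congr rfl fun j hj => hpair i j (Finset.ne_of_mem_erase hj).symm, Finset.sum_const,
          Finset.card_erase_of_mem (Finset.mem_univ _), hN, Nat.add_sub_cancel, nsmul_eq_mul]
        push_cast; ring
      have h2 : LinearMap.trace ℂ V (M * M) =
          ((q ^ 2 + q + 1 : ℕ) : ℂ) * ((q : ℂ) + ((q : ℂ) ^ 2 + q) * τ) := by
        rw [hM, Finset.sum_mul, map_sum]
        simp only [Finset.mul_sum, map_sum]
        rw [Finset.sum_congr rfl fun i _ => hsq i, Finset.sum_const, hN, nsmul_eq_mul]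
      have h1' : LinearMap.trace ℂ V M = ((q ^ 2 + q + 1 : ℕ) : ℂ) * q := by
        rw [hM, map_sum, Finset.sum_congr rfl fun i _ => htr i, Finset.sum_const, hN, hrk, nsmul_eq_mul]
      simp only [mul_sub, sub_mul, smul_mul_assoc, mul_smul_comm, one_mul, mul_one, map_sub, map_smul,
        LinearMap.trace_one, hdim, h2, h1', smul_eq_mul, hτ1 h1, hl]
      push_cast
      field_simp [q_ne F]
      ring
    · have h00 : rk (P0 ρ) = 0 := by omega
      have hdim : finrank ℂ V + 1 = q ^ 3 := by rw [S.deg, h00, add_zero]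
      refine ⟨1, one_ne_zero, ?_⟩
      rw [one_smul]
      have horth : ∀ i j, i ≠ j → P i * P j = 0 := fun i j hij => by
        have hz : PP ρ * ρ ((fam i)⁻¹ * fam j) * PP ρ = 0 := by
          obtain ⟨a, ha, b, hb, hg | hg⟩ := adj_fam hij <;> rw [hg, map_mul, map_mul] <;>
          simp only [← mul_assoc] <;> rw [← (P3_PP ρ ha).eq, mul_assoc _ (ρ b), (P3_PP ρ hb).eq] <;>
          simp only [mul_assoc] <;> rw [← mul_assoc (PP ρ), ← mul_assoc (PP ρ * _)]
          · rw [squeeze_nE, rk_zero_iff.1 h00]; simp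
          · rw [squeeze_nE', rk_zero_iff.1 h00]; simp
        rw [map_mul] at hz
        calc P i * P j = ρ (fam i) * (PP ρ * (ρ (fam i)⁻¹ * ρ (fam j)) * PP ρ) * ρ (fam j)⁻¹ := by
              simp only [hP, mul_assoc]
          _ = 0 := by rw [hz, mul_zero, zero_mul]
      have hMM : M * M = M := by
        rw [hM, Finset.sum_mul]
        refine Finset.sum_congr rfl fun i _ => ?_
        rw [Finset.mul_sum, Finset.sum_eq_single i (fun j _ hj => horth i j hj.symm)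
          (fun hn => absurd (Finset.mem_univ _) hn), hPi]
      have hr : rk M = finrank ℂ V := by
        apply Nat.cast_injective (R := ℂ)
        rw [rk_trace hMM, hM, map_sum, Finset.sum_congr rfl fun i _ => htr i, Finset.sum_const, hN, hrkP, h00,
          add_zero, nsmul_eq_mul, ← Nat.cast_mul]
        congr 1
        have hgeom : (q ^ 2 + q + 1) * (q - 1) + 1 = q ^ 3 := by
          obtain ⟨Q, hQ⟩ : ∃ Q, q = Q + 1 := ⟨q - 1, by omega⟩
          rw [hQ, Nat.add_sub_cancel]; ring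
        omega
      have htop : LinearMap.range M = ⊤ := Submodule.eq_top_of_finrank_eq hr
      refine LinearMap.ext fun x => ?_
      obtain ⟨y, rfl⟩ := LinearMap.range_eq_top.1 htop x
      exact LinearMap.congr_fun hMM y
  obtain ⟨ω, hω⟩ : ∃ ω : Fˣ, orderOf ω = 3 := by
    have : Fact (Nat.Prime 3) := ⟨by norm_num⟩
    exact exists_prime_orderOf_dvd_card 3 (by rw [Fintype.card_units]; omega)
  have hω3 : ω ^ (3 : ℤ) = 1 := by
    rw [show (3 : ℤ) = ((3 : ℕ) : ℤ) from rfl, zpow_natCast, ← hω, pow_orderOf_eq_one]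
  have hω3' : ω ^ (-3 : ℤ) = 1 := by rw [zpow_neg, hω3, inv_one]
  have w6 : wt ω 1 6 = 1 := by simp [wt, hω3']
  have w5 : wt ω 1 5 = 1 := by simp [wt, hω3]
  have w10 : wt ω 1 10 = 1 := by simp [wt, hω3]
  have w1 : wt ω 1 1 = 1 := by simp [wt, hω3']
  have w0 : wt ω 1 0 = 1 := by simp [wt]
  set T := tor ω (1 : Fˣ) with hT
  have hT6 : ∀ x, Commute T (xs 6 x) := X_tor _ _ (by decide) w6
  have hT5 : ∀ x, Commute T (xs 5 x) := X_tor _ _ (by decide) w5
  have hTn : Commute T (nE : Gr F) := nE_tor w10 w1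
  have hTfam : ∀ i, Commute T (fam i) := by
    rintro (⟨A, B⟩ | _ | s)
    · exact (X_tor _ _ (by decide) w1 A).mul_right (X_tor _ _ (by decide) w0 B)
    · exact hTn
    · refine ((hT6 s).mul_right ?_).mul_right hTn
      rw [nn1_eq]
      exact ((hT6 _).mul_right (hT5 _)).mul_right (hT6 _)
  obtain ⟨η, hη⟩ := scalar_on_PP h S (Y := ρ T) (fun t => (hT6 t).map ρ) (fun t => (hT5 t).map ρ)
    (P3_PP ρ (tor_P3 _ _)) (fun κ => (tor_comm _ _ κ κ).map ρ)
  have hTM : ρ T * M = η • M := by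
    rw [hM, Finset.mul_sum, Finset.smul_sum]
    refine Finset.sum_congr rfl fun i _ => ?_
    simp only [hP]
    rw [← mul_assoc, ← mul_assoc, ((hTfam i).map ρ).eq, mul_assoc (ρ (fam i)), hη, mul_smul_comm, smul_mul_assoc]
  rw [hscal, mul_smul_comm, mul_one, smul_smul, mul_comm η, ← smul_smul] at hTM
  have hTs : ρ T = η • 1 := (smul_right_injective (Module.End ℂ V) hlam) hTM
  have e : ρ (T * xs 7 1) = ρ (xs 7 1 * T) := by rw [map_mul, map_mul, hTs]; simp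
  have e' := h.inj e
  rw [hT, tor_x ω 1 (by decide)] at e'
  have e2 := mul_right_cancel e'
  have hw : ((wt ω 1 7 : Fˣ) : F) * 1 = 1 := by
    have h2 := congrArg (fun g : Gr F => g * (xs 7 (1 : F))⁻¹) e2
    simp only [← xs_neg', ← xs_add, add_neg_cancel, xs_zero] at h2
    have h3 := congrArg (fun g : Gr F => (g.1 : GL chevG2.Idx F).val) h2
    simp only [xs, Facts.coe_xg, Subgroup.coe_one, Units.val_one] at h3
    exact add_neg_eq_zero.1 ((factsG2.x_eq_one 7 (by decide) _).1 h3)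
  have : ω ^ 2 = 1 := by
    apply Units.ext
    simpa [wt] using hw
  have h2 := orderOf_dvd_of_pow_eq_one this
  rw [hω] at h2
  norm_num at h2

end Cfsg.Agent.Small.GTwoDegree
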