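import Mathlib

/-!
Projections on the characters of the additive group of a finite field acting on a complex space.
-/

set_option autoImplicit false
set_option linter.unusedSectionVars false

namespace Cfsg.Agent.Small.GTwoDegree

open Module Finset

variable {F : Type*} [Field F] [Fintype F] {M : Type*} [AddCommGroup M] [Module ℂ M]
  [FiniteDimensional ℂ M]

/-- The rank of an operator. -/
noncomputable def rk (A : Module.End ℂ M) : ℕ := finrank ℂ (LinearMap.range A)

theorem rk_trace {A : Module.End ℂ M} (h : A * A = A) : (rk A : ℂ) = LinearMap.trace ℂ M A := by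
  have hp : LinearMap.IsProj (LinearMap.range A) A :=
    ⟨fun x => LinearMap.mem_range_self _ x, by rintro _ ⟨x, rfl⟩; exact LinearMap.congr_fun h x⟩
  rw [rk, ← hp.trace]

theorem rk_one : rk (1 : Module.End ℂ M) = finrank ℂ M := by
  show finrank ℂ (LinearMap.range (LinearMap.id : M →ₗ[ℂ] M)) = _
  rw [LinearMap.range_id, finrank_top]

theorem rk_zero_iff {A : Module.End ℂ M} : rk A = 0 ↔ A = 0 :=
  Submodule.finrank_eq_zero.trans LinearMap.range_eq_bot

theorem rk_sum {ι : Type*} (s : Finset ι) {A : ι → Module.End ℂ M} {B : Module.End ℂ M}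
    (hA : ∀ i ∈ s, A i * A i = A i) (hB : B * B = B) (h : ∑ i ∈ s, A i = B) :
    ∑ i ∈ s, rk (A i) = rk B := by
  apply Nat.cast_injective (R := ℂ)
  rw [rk_trace hB, Nat.cast_sum, ← h, map_sum]
  exact Finset.sum_congr rfl fun i hi => rk_trace (hA i hi)

theorem rk_eq_of_conj {A B : Module.End ℂ M} {g : (Module.End ℂ M)ˣ} (hA : A * A = A)
    (h : (g : Module.End ℂ M) * A = B * g) : rk A = rk B := by
  have hB : B = g * A * (g⁻¹ : (Module.End ℂ M)ˣ) := by rw [h, mul_assoc, Units.mul_inv, mul_one]
  have hB2 : B * B = B := by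
    rw [hB]
    calc (g : Module.End ℂ M) * A * ↑g⁻¹ * (↑g * A * ↑g⁻¹)
        = g * A * ((↑g⁻¹ : Module.End ℂ M) * g) * A * ↑g⁻¹ := by simp only [mul_assoc]
      _ = g * (A * A) * ↑g⁻¹ := by rw [Units.inv_mul, mul_one]; simp only [mul_assoc]
      _ = _ := by rw [hA]
  apply Nat.cast_injective (R := ℂ)
  rw [rk_trace hA, rk_trace hB2, hB, mul_assoc, LinearMap.trace_mul_comm, mul_assoc, Units.inv_mul, mul_one]

theorem exists_scalar {P Y : Module.End ℂ M} (h1 : rk P = 1) (hP : P * P = P) (hY : Y * P = P * Y) :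
    ∃ μ : ℂ, Y * P = μ • P := by
  obtain ⟨v, -, hv⟩ := finrank_eq_one_iff'.1 h1
  have hmem : (Y * P) (v : M) ∈ LinearMap.range P := by rw [hY]; exact LinearMap.mem_range_self _ _
  obtain ⟨μ, hμ⟩ := hv ⟨_, hmem⟩
  have hμ' : μ • (v : M) = (Y * P) (v : M) := congrArg Subtype.val hμ
  refine ⟨μ, LinearMap.ext fun x => ?_⟩
  obtain ⟨c, hc⟩ := hv ⟨P x, LinearMap.mem_range_self _ x⟩
  have hc' : c • (v : M) = P x := congrArg Subtype.val hc
  have hPv : P (v : M) = v := by
    obtain ⟨w, hw⟩ := v.2
    rw [← hw]; exact LinearMap.congr_fun hP w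
  rw [Module.End.mul_apply, LinearMap.smul_apply, ← hc', map_smul, smul_comm]
  rw [hμ', Module.End.mul_apply, hPv]

theorem scalar_unique {P : Module.End ℂ M} (h : P ≠ 0) {a b : ℂ} (he : a • P = b • P) : a = b := by
  by_contra hne
  exact h ((smul_eq_zero.1 (show (a - b) • P = 0 by rw [sub_smul, he, sub_self])).resolve_left
    (sub_ne_zero.2 hne))

/-- A fixed primitive character. -/
noncomputable def psi (F : Type*) [Field F] [Fintype F] : AddChar F ℂ :=
  AddChar.FiniteField.primitiveChar_to_Complex F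

theorem psi_prim : (psi F).IsPrimitive := AddChar.FiniteField.primitiveChar_to_Complex_isPrimitive F

theorem psi_ne {c : F} (hc : c ≠ 0) : ∃ t : F, psi F (c * t) ≠ 1 := by
  by_contra h
  push Not at h
  exact psi_prim hc (DFunLike.ext _ _ fun t => by rw [AddChar.mulShift_apply, AddChar.one_apply]; exact h t)

theorem psi_sum (c : F) [Decidable (c = 0)] :
    ∑ t : F, psi F (c * t) = if c = 0 then (Fintype.card F : ℂ) else 0 := by
  classical
  have h := AddChar.sum_mulShift c (psi_prim (F := F))
  rw [Finset.sum_congr rfl fun t _ => by rw [mul_comm]] at h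
  rw [h]
  split <;> simp

theorem q_ne (F : Type*) [Fintype F] [Nonempty F] : (Fintype.card F : ℂ) ≠ 0 :=
  Nat.cast_ne_zero.2 Fintype.card_ne_zero

/-- The projection on a character. -/
noncomputable def E (R : F → Module.End ℂ M) (a : F) : Module.End ℂ M :=
  (Fintype.card F : ℂ)⁻¹ • ∑ t, psi F (-(a * t)) • R t

/-- An additive one-parameter family of operators. -/
structure IsRep (R : F → Module.End ℂ M) : Prop where
  zero : R 0 = 1
  add : ∀ x y, R (x + y) = R x * R y

variable {R R' : F → Module.End ℂ M}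

namespace IsRep

variable (hR : IsRep R)
include hR

theorem comm (x y : F) : Commute (R x) (R y) := by
  show R x * R y = R y * R x
  rw [← hR.add, ← hR.add, add_comm]

theorem mul_E (c a : F) : R c * E R a = psi F (a * c) • E R a := by
  have hsum : ∑ t, R c * (psi F (-(a * t)) • R t) = ∑ t, psi F (a * c) • (psi F (-(a * t)) • R t) := by
    refine Fintype.sum_equiv (Equiv.addLeft c) _ _ fun t => ?_
    show _ = psi F (a * c) • (psi F (-(a * (c + t))) • R (c + t))
    rw [mul_smul_comm, ← hR.add, smul_smul, ← AddChar.map_add_eq_mul]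
    congr 2; ring
  rw [E, mul_smul_comm, Finset.mul_sum, hsum, ← Finset.smul_sum, smul_comm]

theorem E_mul (c a : F) : E R a * R c = psi F (a * c) • E R a := by
  rw [← hR.mul_E, E, smul_mul_assoc, mul_smul_comm, Finset.sum_mul, Finset.mul_sum]
  congr 1
  refine Finset.sum_congr rfl fun t _ => ?_
  rw [smul_mul_assoc, mul_smul_comm, (hR.comm t c).eq]

theorem E_mul_E (a b : F) [Decidable (a = b)] : E R a * E R b = if a = b then E R a else 0 := by
  classical
  nth_rewrite 1 [E]
  rw [smul_mul_assoc, Finset.sum_mul]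
  simp only [smul_mul_assoc, hR.mul_E, smul_smul, ← AddChar.map_add_eq_mul]
  rw [← Finset.sum_smul, smul_smul]
  have h : ∑ t : F, psi F (-(a * t) + b * t) = ∑ t : F, psi F ((b - a) * t) :=
    Finset.sum_congr rfl fun t _ => by congr 1; ring
  rw [h, psi_sum]
  by_cases hab : a = b
  · rw [if_pos hab, if_pos (sub_eq_zero.2 hab.symm), inv_mul_cancel₀ (q_ne F), one_smul, hab]
  · rw [if_neg hab, if_neg (sub_ne_zero.2 (Ne.symm hab)), mul_zero, zero_smul]

theorem E_idem (a : F) : E R a * E R a = E R a := by classical rw [hR.E_mul_E, if_pos rfl]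

theorem sum_E : ∑ a : F, E R a = 1 := by
  classical
  simp only [E, ← Finset.smul_sum]
  rw [Finset.sum_comm]
  have h : ∀ t : F, ∑ a : F, psi F (-(a * t)) • R t = if t = 0 then (Fintype.card F : ℂ) • R 0 else 0 := by
    intro t
    rw [← Finset.sum_smul, show ∑ a : F, psi F (-(a * t)) = ∑ a : F, psi F (-t * a) from
      Finset.sum_congr rfl fun a _ => by congr 1; ring, psi_sum]
    by_cases ht : t = 0
    · simp [ht]
    · rw [if_neg (neg_ne_zero.2 ht), if_neg ht, zero_smul]
  rw [Finset.sum_congr rfl fun t _ => h t, Finset.sum_ite_eq' Finset.univ, if_pos (Finset.mem_univ _),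
    smul_smul, inv_mul_cancel₀ (q_ne F), one_smul, hR.zero]

theorem eq_one_of {P : Module.End ℂ M} (h : ∀ a, a ≠ 0 → E R a * P = 0) (t : F) : R t * P = P := by
  have h0 : E R 0 * P = P := by
    conv_rhs => rw [← one_mul P, ← hR.sum_E, Finset.sum_mul]
    rw [Finset.sum_eq_single (0 : F) (fun a _ ha => h a ha) (fun hn => absurd (Finset.mem_univ _) hn)]
  rw [← h0, ← mul_assoc, hR.mul_E, zero_mul, AddChar.map_zero_eq_one, one_smul]

theorem E_zero_mul {P : Module.End ℂ M} (h : ∀ t, R t * P = P) : E R 0 * P = P := by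
  rw [E, smul_mul_assoc, Finset.sum_mul]
  simp only [zero_mul, neg_zero, AddChar.map_zero_eq_one, one_smul, h]
  rw [Finset.sum_const, Finset.card_univ, ← Nat.cast_smul_eq_nsmul ℂ, smul_smul,
    inv_mul_cancel₀ (q_ne F), one_smul]

/-- The ranks on a commuting projection add up. -/
theorem sum_rk {P : Module.End ℂ M} (hP : P * P = P) (hc : ∀ t, Commute (R t) P) :
    ∑ a : F, rk (E R a * P) = rk P := by
  have hcE : ∀ a, Commute (E R a) P := fun a => by
    rw [E]; exact (Commute.sum_left _ _ _ fun t _ => (hc t).smul_left _).smul_left _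
  refine rk_sum _ (fun a _ => ?_) hP (by rw [← Finset.sum_mul, hR.sum_E, one_mul])
  calc E R a * P * (E R a * P) = E R a * (P * E R a) * P := by simp only [mul_assoc]
    _ = E R a * E R a * (P * P) := by rw [← (hcE a).eq]; simp only [mul_assoc]
    _ = _ := by rw [hR.E_idem, hP]

end IsRep

theorem E_commute {A : Module.End ℂ M} (h : ∀ t, Commute A (R t)) (a : F) : Commute A (E R a) := by
  rw [E]; exact (Commute.sum_right _ _ _ fun t _ => (h t).smul_right _).smul_right _

/-- Intertwining a scaled family. -/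
theorem E_move {g : Module.End ℂ M} {k : F} (hk : k ≠ 0) (h : ∀ t, g * R t = R' (k * t) * g) (a : F) :
    g * E R a = E R' (a / k) * g := by
  rw [E, E, mul_smul_comm, smul_mul_assoc, Finset.mul_sum, Finset.sum_mul]
  congr 1
  refine Fintype.sum_equiv (Equiv.mulLeft₀ k hk) _ _ fun t => ?_
  show g * (psi F (-(a * t)) • R t) = psi F (-(a / k * (k * t))) • R' (k * t) * g
  rw [mul_smul_comm, h, smul_mul_assoc, ← mul_assoc (a / k), div_mul_cancel₀ a hk]

/-- Intertwining up to a linear character shifts the character. -/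
theorem E_shift {g P : Module.End ℂ M} {c : F}
    (h : ∀ t, g * (R t * P) = psi F (c * t) • (R t * P) * g) (a : F) :
    g * (E R a * P) = E R (a - c) * P * g := by
  simp only [E, smul_mul_assoc, Finset.sum_mul, mul_smul_comm, Finset.mul_sum]
  congr 1
  refine Finset.sum_congr rfl fun t _ => ?_
  rw [h, smul_mul_assoc, smul_smul, ← AddChar.map_add_eq_mul]
  congr 2; ring

end Cfsg.Agent.Small.GTwoDegree
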