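import Cfsg.Agent.Lib.Small.GTwoDegree.Count

/-!
The count over both maximal parabolic subgroups in characteristic three.
-/

set_option autoImplicit false
set_option linter.unusedSectionVars false

namespace Cfsg.Agent.Small.GTwoDegree

open Cfsg.Lie Cfsg.Agent.Lie Module Finset

variable {F : Type*} [Field F] [Fintype F] {V : Type*} [AddCommGroup V] [Module ℂ V] [FiniteDimensional ℂ V]
variable (ρ : Representation ℂ (Gr F) V)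

local notation "q" => Fintype.card F

/-- The projection on a character of 8, 9, 10, 11. -/
noncomputable def Q4 (γ δ ε φ : F) : Module.End ℂ V :=
  Ek ρ 8 γ * (Ek ρ 9 δ * (Ek ρ 10 ε * Ek ρ 11 φ))

/-- The multiplicity of a character of 8, 9, 10, 11. -/
noncomputable def m4 (γ δ ε φ : F) : ℕ := rk (Q4 ρ γ δ ε φ)

/-- The multiplicity of a character of 8, 9, 11. -/
noncomputable def mA (γ δ φ : F) : ℕ := rk (Ek ρ 8 γ * (Ek ρ 9 δ * Ek ρ 11 φ))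

variable (h3 : (3 : F) = 0)
include h3

theorem X89 (x y : F) : Commute (X ρ 8 x) (X ρ 9 y) := by
  show ρ _ * ρ _ = ρ _ * ρ _
  rw [← map_mul, ← map_mul, cd, h3]
  simp [xs_zero]

theorem X79 (x y : F) : Commute (X ρ 7 x) (X ρ 9 y) := by
  show ρ _ * ρ _ = ρ _ * ρ _
  rw [← map_mul, ← map_mul, ad, h3]
  simp [xs_zero]

theorem X8E9 (x a : F) : Commute (X ρ 8 x) (Ek ρ 9 a) := E_commute (fun t => X89 ρ h3 x t) a

theorem X7E9 (x a : F) : Commute (X ρ 7 x) (Ek ρ 9 a) := E_commute (fun t => X79 ρ h3 x t) a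

theorem E8E9 (a b : F) : Commute (Ek ρ 8 a) (Ek ρ 9 b) :=
  (E_commute (fun t => (X8E9 ρ h3 t b).symm) a).symm

theorem inner_idem (δ ε φ : F) : Ek ρ 9 δ * (Ek ρ 10 ε * Ek ρ 11 φ) *
    (Ek ρ 9 δ * (Ek ρ 10 ε * Ek ρ 11 φ)) = Ek ρ 9 δ * (Ek ρ 10 ε * Ek ρ 11 φ) := A_idem δ ε φ

theorem X8_inner (x δ ε φ : F) : Commute (X ρ 8 x) (Ek ρ 9 δ * (Ek ρ 10 ε * Ek ρ 11 φ)) :=
  (X8E9 ρ h3 x δ).mul_right (X_EF ρ (by decide) (by decide) x ε φ)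

theorem X7_inner (x δ ε φ : F) : Commute (X ρ 7 x) (Ek ρ 9 δ * (Ek ρ 10 ε * Ek ρ 11 φ)) :=
  (X7E9 ρ h3 x δ).mul_right (X_EF ρ (by decide) (by decide) x ε φ)

theorem Q4_idem (γ δ ε φ : F) : Q4 ρ γ δ ε φ * Q4 ρ γ δ ε φ = Q4 ρ γ δ ε φ :=
  idem_mul (E_idem' ρ 8 γ) (inner_idem ρ h3 δ ε φ) (E_commute (fun t => (X8_inner ρ h3 t δ ε φ).symm) γ).symm

theorem sum_c (δ ε φ : F) : ∑ γ : F, m4 ρ γ δ ε φ = n3 ρ δ ε φ :=
  sum_rk' ρ 8 (inner_idem ρ h3 δ ε φ) fun t => X8_inner ρ h3 t δ ε φ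

theorem Q4_e (γ δ ε φ : F) :
    Q4 ρ γ δ ε φ = Ek ρ 10 ε * (Ek ρ 8 γ * (Ek ρ 9 δ * Ek ρ 11 φ)) := by
  rw [Q4]
  simp only [← mul_assoc]
  rw [mul_assoc (Ek ρ 8 γ), (E_comm ρ (r := 9) (s := 10) (by decide) δ ε).eq, ← mul_assoc,
    (E_comm ρ (r := 8) (s := 10) (by decide) γ ε).eq]

theorem mA_idem (γ δ φ : F) : Ek ρ 8 γ * (Ek ρ 9 δ * Ek ρ 11 φ) * (Ek ρ 8 γ * (Ek ρ 9 δ * Ek ρ 11 φ)) =
    Ek ρ 8 γ * (Ek ρ 9 δ * Ek ρ 11 φ) :=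
  idem_mul (E_idem' ρ 8 γ) (idem_mul (E_idem' ρ 9 δ) (E_idem' ρ 11 φ) (E_comm ρ (by decide) δ φ))
    ((E8E9 ρ h3 γ δ).mul_right (E_comm ρ (by decide) γ φ))

theorem sum_e (γ δ φ : F) : ∑ ε : F, m4 ρ γ δ ε φ = mA ρ γ δ φ := by
  simp only [m4, Q4_e ρ h3]
  exact sum_rk' ρ 10 (mA_idem ρ h3 γ δ φ) fun t =>
    (XE_comm ρ (by decide) t γ).mul_right ((XE_comm ρ (by decide) t δ).mul_right (XE_comm ρ (by decide) t φ))

theorem shift4_c (γ δ ε φ u : F) : m4 ρ γ δ ε φ = m4 ρ (γ - δ * u) δ ε φ := by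
  have hg : Commute (X ρ 7 u) (Ek ρ 9 δ * (Ek ρ 10 ε * Ek ρ 11 φ)) := X7_inner ρ h3 u δ ε φ
  refine rk_move ρ (xs 7 u) (Q4_idem ρ h3 γ δ ε φ) ?_
  refine E_shift (c := δ * u) (fun t => ?_) γ
  show X ρ 7 u * _ = _
  have hac : X ρ 7 u * X ρ 8 t = X ρ 8 t * X ρ 9 (u * t) * X ρ 7 u := by
    rw [X, X, X, ← map_mul, ac, map_mul, map_mul]
    congr 2
    rw [h3]
    simp [xs_zero, show -(2 * u * t) = u * t by linear_combination (-(u * t)) * h3]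
  rw [← mul_assoc, hac, mul_assoc (X ρ 8 t * X ρ 9 (u * t)), hg.eq, ← mul_assoc, mul_assoc (X ρ 8 t),
    ← mul_assoc (X ρ 9 (u * t)),
    show X ρ 9 (u * t) * Ek ρ 9 δ = psi F (δ * (u * t)) • Ek ρ 9 δ from (isRep ρ 9).mul_E _ _]
  simp only [mul_smul_comm, smul_mul_assoc, mul_assoc]
  rfl

theorem shift4_e (γ δ ε φ u : F) : m4 ρ γ δ ε φ = m4 ρ γ δ (ε - φ * u) φ := by
  have hg : Commute (X ρ 6 u) (Ek ρ 8 γ * (Ek ρ 9 δ * Ek ρ 11 φ)) :=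
    (XE_comm ρ (by decide) u γ).mul_right ((XE_comm ρ (by decide) u δ).mul_right (XE_comm ρ (by decide) u φ))
  refine rk_move ρ (xs 6 u) (Q4_idem ρ h3 γ δ ε φ) ?_
  rw [Q4_e ρ h3, Q4_e ρ h3]
  refine E_shift (c := φ * u) (fun t => ?_) ε
  show X ρ 6 u * _ = _
  rw [← mul_assoc, show X ρ 6 u * X ρ 10 t = X ρ 10 t * X ρ 11 (u * t) * X ρ 6 u from by
      rw [X, X, X, ← map_mul, be, map_mul, map_mul],
    mul_assoc (X ρ 10 t * X ρ 11 (u * t)), hg.eq, ← mul_assoc, mul_assoc (X ρ 10 t),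
    ← mul_assoc (X ρ 11 (u * t)), (XE_comm ρ (r := 11) (s := 8) (by decide) _ γ).eq, mul_assoc (Ek ρ 8 γ),
    ← mul_assoc (X ρ 11 (u * t)), (XE_comm ρ (r := 11) (s := 9) (by decide) _ δ).eq, mul_assoc (Ek ρ 9 δ),
    show X ρ 11 (u * t) * Ek ρ 11 φ = psi F (φ * (u * t)) • Ek ρ 11 φ from (isRep ρ 11).mul_E _ _]
  simp only [mul_smul_comm, smul_mul_assoc, mul_assoc]
  rfl

theorem tor4 (κ lam : Fˣ) (γ δ ε φ : F) : m4 ρ γ δ ε φ =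
    m4 ρ (γ / (wt κ lam 8 : F)) (δ / (wt κ lam 9 : F)) (ε / (wt κ lam 10 : F)) (φ / (wt κ lam 11 : F)) :=
  rk_move ρ (tor κ lam) (Q4_idem ρ h3 γ δ ε φ) (move_mul (tor_E ρ κ lam (by decide) γ)
    (move_mul (tor_E ρ κ lam (by decide) δ) (move_mul (tor_E ρ κ lam (by decide) ε) (tor_E ρ κ lam (by decide) φ))))

theorem m4_top (γ ε : F) {δ φ : F} (hδ : δ ≠ 0) (hφ : φ ≠ 0) : m4 ρ γ δ ε φ = m4 ρ 0 1 0 1 := by
  rw [shift4_c ρ h3 γ δ ε φ (γ / δ), mul_div_cancel₀ _ hδ, sub_self, shift4_e ρ h3 _ δ ε φ (ε / φ),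
    mul_div_cancel₀ _ hφ, sub_self, tor4 ρ h3 (Units.mk0 δ hδ) (Units.mk0 φ hφ)]
  simp [wt, div_self hδ, div_self hφ]

theorem mA_swap (γ δ φ : F) : ∃ γ' δ' φ' : F, (γ ≠ 0 → γ' ≠ 0) ∧ (γ = 0 → γ' = 0) ∧
    (δ = 0 → δ' = 0) ∧ (φ ≠ 0 → φ' ≠ 0) ∧ (φ = 0 → φ' = 0) ∧ mA ρ γ δ φ = mA ρ δ' γ' φ' := by
  obtain ⟨a, ha, h8⟩ := nn_E ρ 0 (s := 8) (s' := 9) (by decide +kernel) (by norm_num)
  obtain ⟨b, hb, h9⟩ := nn_E ρ 0 (s := 9) (s' := 8) (by decide +kernel) (by norm_num)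
  obtain ⟨c, hc, h11⟩ := nn_E ρ 0 (s := 11) (s' := 11) (by decide +kernel) (by norm_num)
  refine ⟨γ / a, δ / b, φ / c, fun h => div_ne_zero h ha, fun h => by simp [h], fun h => by simp [h],
    fun h => div_ne_zero h hc, fun h => by simp [h], rk_move ρ (nn 0) (mA_idem ρ h3 γ δ φ) ?_⟩
  rw [move_mul (h8 γ) (move_mul (h9 δ) (h11 φ))]
  congr 1
  rw [← mul_assoc, ← mul_assoc, (E8E9 ρ h3 (δ / b) (γ / a)).eq]

theorem n3_swap (δ ε φ : F) : ∃ δ' ε' φ' : F, (δ ≠ 0 → δ' ≠ 0) ∧ (δ = 0 → δ' = 0) ∧ (ε ≠ 0 → ε' ≠ 0) ∧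
    (φ = 0 → φ' = 0) ∧ n3 ρ δ ε φ = n3 ρ δ' φ' ε' := by
  obtain ⟨d, hd, h9⟩ := nn_E ρ 1 (s := 9) (s' := 9) (by decide +kernel) (by norm_num)
  obtain ⟨σ, τ, hσ, -, he⟩ := nn1_EF ρ ε φ
  exact ⟨δ / d, ε / σ, φ / τ, fun h => div_ne_zero h hd, fun h => by simp [h], fun h => div_ne_zero h hσ,
    fun h => by simp [h], rk_move ρ (nn 1) (inner_idem ρ h3 δ ε φ) (move_mul (h9 δ) he)⟩

theorem m4_gf {γ φ : F} (ε : F) (hγ : γ ≠ 0) (hφ : φ ≠ 0) : m4 ρ γ 0 ε φ = m4 ρ 0 1 0 1 := by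
  have hu : ∀ ε', m4 ρ γ 0 ε' φ = m4 ρ γ 0 0 φ := fun ε' => by
    rw [shift4_e ρ h3 γ 0 ε' φ (ε' / φ), mul_div_cancel₀ _ hφ, sub_self]
  obtain ⟨γ', δ', φ', hg, -, hd, hf, -, he⟩ := mA_swap ρ h3 γ 0 φ
  rw [hd rfl, ← sum_e ρ h3, ← sum_e ρ h3, Finset.sum_congr rfl fun ε' _ => hu ε',
    Finset.sum_congr rfl fun ε' _ => m4_top ρ h3 (0 : F) ε' (hg hγ) (hf hφ)] at he
  simp only [Finset.sum_const, Finset.card_univ, smul_eq_mul] at he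
  rw [hu, Nat.eq_of_mul_eq_mul_left Fintype.card_pos he]

theorem n3_df (δ ε φ : F) (hδ : δ ≠ 0) (hφ : φ ≠ 0) : n3 ρ δ ε φ = q * m4 ρ 0 1 0 1 := by
  rw [← sum_c ρ h3, Finset.sum_congr rfl fun γ _ => m4_top ρ h3 γ ε hδ hφ]; simp

theorem n3_de (δ ε : F) (hδ : δ ≠ 0) (hε : ε ≠ 0) : n3 ρ δ ε 0 = q * m4 ρ 0 1 0 1 := by
  obtain ⟨δ', ε', φ', hd, -, he, -, e⟩ := n3_swap ρ h3 δ ε 0
  rw [e, n3_df ρ h3 _ _ _ (hd hδ) (he hε)]

theorem m4_de {δ ε : F} (γ : F) (hδ : δ ≠ 0) (hε : ε ≠ 0) : m4 ρ γ δ ε 0 = m4 ρ 0 1 0 1 := by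
  have hu : ∀ γ', m4 ρ γ' δ ε 0 = m4 ρ 0 δ ε 0 := fun γ' => by
    rw [shift4_c ρ h3 γ' δ ε 0 (γ' / δ), mul_div_cancel₀ _ hδ, sub_self]
  have e := sum_c ρ h3 δ ε 0
  rw [n3_de ρ h3 _ _ hδ hε, Finset.sum_congr rfl fun γ' _ => hu γ'] at e
  simp only [Finset.sum_const, Finset.card_univ, smul_eq_mul] at e
  rw [hu, Nat.eq_of_mul_eq_mul_left Fintype.card_pos e]

theorem n3_f (ε : F) {φ : F} (hφ : φ ≠ 0) :
    n3 ρ 0 ε φ = (q - 1) * m4 ρ 0 1 0 1 + m4 ρ 0 0 0 1 := by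
  classical
  have h0 : m4 ρ 0 0 ε φ = m4 ρ 0 0 0 1 := by
    rw [shift4_e ρ h3 0 0 ε φ (ε / φ), mul_div_cancel₀ _ hφ, sub_self, tor4 ρ h3 1 (Units.mk0 φ hφ)]
    simp [wt, div_self hφ]
  rw [← sum_c ρ h3, ← Finset.sum_erase_add _ _ (Finset.mem_univ (0 : F)),
    Finset.sum_congr rfl fun γ hγ => m4_gf ρ h3 ε (Finset.ne_of_mem_erase hγ) hφ, h0]
  simp

theorem n3_e {ε : F} (hε : ε ≠ 0) : n3 ρ 0 ε 0 = (q - 1) * m4 ρ 0 1 0 1 + m4 ρ 0 0 0 1 := by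
  obtain ⟨δ', ε', φ', -, hd, he, hf, e⟩ := n3_swap ρ h3 0 ε 0
  rw [e, hd rfl, hf rfl, n3_f ρ h3 0 (he hε)]

theorem m4_d (γ : F) {δ : F} (hδ : δ ≠ 0) : m4 ρ γ δ 0 0 = m4 ρ 0 1 0 0 := by
  rw [shift4_c ρ h3 γ δ 0 0 (γ / δ), mul_div_cancel₀ _ hδ, sub_self, tor4 ρ h3 (Units.mk0 δ hδ) 1]
  simp [wt, div_self hδ]

theorem mA_c {γ : F} (hγ : γ ≠ 0) : mA ρ γ 0 0 = (q - 1) * m4 ρ 0 1 0 1 + m4 ρ 0 1 0 0 := by
  classical
  obtain ⟨γ', δ', φ', hg, -, hd, -, hf, e⟩ := mA_swap ρ h3 γ 0 0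
  rw [e, hd rfl, hf rfl, ← sum_e ρ h3, ← Finset.sum_erase_add _ _ (Finset.mem_univ (0 : F)),
    Finset.sum_congr rfl fun ε hε => m4_de ρ h3 0 (hg hγ) (Finset.ne_of_mem_erase hε), m4_d ρ h3 0 (hg hγ)]
  simp

theorem finrank_three : finrank ℂ V =
    (q - 1) * (q * ((q - 1) * (q * m4 ρ 0 1 0 1) + ((q - 1) * m4 ρ 0 1 0 1 + m4 ρ 0 0 0 1))) +
    ((q - 1) * ((q - 1) * (q * m4 ρ 0 1 0 1) + ((q - 1) * m4 ρ 0 1 0 1 + m4 ρ 0 0 0 1)) +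
      ((q - 1) * (q * m4 ρ 0 1 0 0) + n3 ρ 0 0 0)) := by
  classical
  have h1 : finrank ℂ V = ∑ φ : F, ∑ ε : F, ∑ δ : F, n3 ρ δ ε φ := by
    rw [← rk_one, ← rk_sum Finset.univ (fun φ _ => E_idem' ρ 11 φ) (mul_one _) (isRep ρ 11).sum_E]
    refine Finset.sum_congr rfl fun φ _ => ?_
    rw [← sum_rk' ρ 10 (E_idem' ρ 11 φ) fun t => XE_comm ρ (by decide) t φ]
    exact Finset.sum_congr rfl fun ε _ => (sum_d ε φ).symm
  have hsplit : ∀ (ε φ c : F) (n : ℕ), (∀ δ, δ ≠ 0 → n3 ρ δ ε φ = n) → c = 0 →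
      ∑ δ : F, n3 ρ δ ε φ = (q - 1) * n + n3 ρ c ε φ := fun ε φ c n hn hc => by
    subst hc
    rw [← Finset.sum_erase_add _ _ (Finset.mem_univ (0 : F)),
      Finset.sum_congr rfl fun δ hδ => hn δ (Finset.ne_of_mem_erase hδ)]
    simp
  have hf : ∀ φ ε : F, φ ≠ 0 → ∑ δ : F, n3 ρ δ ε φ =
      (q - 1) * (q * m4 ρ 0 1 0 1) + ((q - 1) * m4 ρ 0 1 0 1 + m4 ρ 0 0 0 1) := fun φ ε hφ => by
    rw [hsplit ε φ 0 _ (fun δ hδ => n3_df ρ h3 δ ε φ hδ hφ) rfl, n3_f ρ h3 ε hφ]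
  have he : ∀ ε : F, ε ≠ 0 → ∑ δ : F, n3 ρ δ ε 0 =
      (q - 1) * (q * m4 ρ 0 1 0 1) + ((q - 1) * m4 ρ 0 1 0 1 + m4 ρ 0 0 0 1) := fun ε hε => by
    rw [hsplit ε 0 0 _ (fun δ hδ => n3_de ρ h3 δ ε hδ hε) rfl, n3_e ρ h3 hε]
  have h0 : ∑ δ : F, n3 ρ δ 0 0 = (q - 1) * (q * m4 ρ 0 1 0 0) + n3 ρ 0 0 0 := hsplit 0 0 0 _ (fun δ hδ => by
    rw [← sum_c ρ h3, Finset.sum_congr rfl fun γ _ => m4_d ρ h3 γ hδ]; simp) rfl
  rw [h1, ← Finset.sum_erase_add _ _ (Finset.mem_univ (0 : F)),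
    Finset.sum_congr rfl fun φ hφ => Finset.sum_congr rfl fun ε _ => hf φ ε (Finset.ne_of_mem_erase hφ),
    ← Finset.sum_erase_add Finset.univ (fun ε : F => ∑ δ : F, n3 ρ δ ε 0) (Finset.mem_univ (0 : F)),
    Finset.sum_congr rfl fun ε hε => he ε (Finset.ne_of_mem_erase hε), h0]
  simp [Finset.sum_const, mul_left_comm]

theorem X6_Q40 (γ ε t : F) : Commute (X ρ 6 t) (Q4 ρ γ 0 ε 0) :=
  (XE_comm ρ (by decide) t γ).mul_right ((XE_comm ρ (by decide) t 0).mul_right (X6_EF0 ρ t ε))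

theorem X7_Q40 (γ ε u : F) : Commute (X ρ 7 u) (Q4 ρ γ 0 ε 0) := by
  have hg : Commute (X ρ 7 u) (Ek ρ 9 0 * (Ek ρ 10 ε * Ek ρ 11 0)) := X7_inner ρ h3 u 0 ε 0
  have e := E_shift (g := X ρ 7 u) (R := X ρ 8) (P := Ek ρ 9 0 * (Ek ρ 10 ε * Ek ρ 11 0)) (c := 0)
    (fun t => by
      have hac : X ρ 7 u * X ρ 8 t = X ρ 8 t * X ρ 9 (u * t) * X ρ 7 u := by
        rw [X, X, X, ← map_mul, ac, map_mul, map_mul]
        congr 2
        rw [h3]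
        simp [xs_zero, show -(2 * u * t) = u * t by linear_combination (-(u * t)) * h3]
      rw [zero_mul, AddChar.map_zero_eq_one, one_smul, ← mul_assoc, hac, mul_assoc (X ρ 8 t * X ρ 9 (u * t)),
        hg.eq, ← mul_assoc, mul_assoc (X ρ 8 t), ← mul_assoc (X ρ 9 (u * t)), X_E]) γ
  rw [sub_zero] at e
  exact e

theorem X8_Q4 (γ δ ε φ t : F) : X ρ 8 t * Q4 ρ γ δ ε φ = psi F (γ * t) • Q4 ρ γ δ ε φ := by
  rw [Q4, ← mul_assoc, Ek, (isRep ρ 8).mul_E, smul_mul_assoc]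

theorem X9_Q40 (γ ε t : F) : X ρ 9 t * Q4 ρ γ 0 ε 0 = Q4 ρ γ 0 ε 0 := by
  have hc : Commute (X ρ 9 t) (Ek ρ 8 γ) := E_commute (fun x => (X89 ρ h3 x t).symm) γ
  rw [Q4, ← mul_assoc, hc.eq, mul_assoc, ← mul_assoc (X ρ 9 t), X_E]

theorem X10_Q40 (γ ε t : F) : X ρ 10 t * Q4 ρ γ 0 ε 0 = psi F (ε * t) • Q4 ρ γ 0 ε 0 := by
  rw [Q4_e ρ h3, ← mul_assoc, Ek, (isRep ρ 10).mul_E, smul_mul_assoc]

theorem X11_Q40 (γ ε t : F) : X ρ 11 t * Q4 ρ γ 0 ε 0 = Q4 ρ γ 0 ε 0 := by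
  rw [Q4, ← mul_assoc, (XE_comm ρ (r := 11) (s := 8) (by decide) t γ).eq, mul_assoc, ← mul_assoc (X ρ 11 t),
    (XE_comm ρ (r := 11) (s := 9) (by decide) t 0).eq, mul_assoc (Ek ρ 9 0), ← mul_assoc (X ρ 11 t),
    (XE_comm ρ (r := 11) (s := 10) (by decide) t ε).eq, mul_assoc (Ek ρ 10 ε), X_E]

/-- The action of 7 on the characters of 6. -/
theorem shift_b (γ ε u β : F) : X ρ 7 u * (Ek ρ 6 β * Q4 ρ γ 0 ε 0) =
    Ek ρ 6 (β - (ε * u ^ 3 - γ * u)) * Q4 ρ γ 0 ε 0 * X ρ 7 u := by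
  refine E_shift (c := ε * u ^ 3 - γ * u) (fun t => ?_) β
  have e : X ρ 7 u * X ρ 6 t = X ρ 6 t * (X ρ 8 (-(u * t)) * X ρ 9 (u ^ 2 * t) * X ρ 10 (u ^ 3 * t) *
      X ρ 11 (u ^ 3 * t ^ 2)) * X ρ 7 u := by simp only [X, ← map_mul, ab]
  rw [← mul_assoc, e, mul_assoc _ (X ρ 7 u), (X7_Q40 ρ h3 γ ε u).eq]
  simp only [← mul_assoc]
  rw [mul_assoc (X ρ 6 t * X ρ 8 _ * _ * _), X11_Q40 ρ h3, mul_assoc (X ρ 6 t * X ρ 8 _ * _), X10_Q40 ρ h3,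
    mul_smul_comm, mul_assoc (X ρ 6 t * X ρ 8 _), X9_Q40 ρ h3, mul_assoc (X ρ 6 t), X8_Q4 ρ h3,
    mul_smul_comm, smul_smul, ← AddChar.map_add_eq_mul, smul_mul_assoc, smul_mul_assoc]
  congr 2
  ring

/-- The action of 6 on the characters of 7. -/
theorem shift_a (γ ε u α t : F) : X ρ 6 u * (X ρ 7 t * Q4 ρ γ 0 ε 0) =
    psi F (α * 0 + (γ * u * t - ε * u * t ^ 3)) • (X ρ 7 t * Q4 ρ γ 0 ε 0) * X ρ 6 u := by
  have e : X ρ 6 u * X ρ 7 t = X ρ 7 t * (X ρ 8 (u * t) * X ρ 9 (u * t ^ 2) * X ρ 10 (-(u * t ^ 3)) *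
      X ρ 11 (-(2 * u ^ 2 * t ^ 3))) * X ρ 6 u := by simp only [X, ← map_mul, ba]
  rw [← mul_assoc, e, mul_assoc _ (X ρ 6 u), (X6_Q40 ρ h3 γ ε u).eq]
  simp only [← mul_assoc]
  rw [mul_assoc (X ρ 7 t * X ρ 8 _ * _ * _), X11_Q40 ρ h3, mul_assoc (X ρ 7 t * X ρ 8 _ * _), X10_Q40 ρ h3,
    mul_smul_comm, mul_assoc (X ρ 7 t * X ρ 8 _), X9_Q40 ρ h3, mul_assoc (X ρ 7 t), X8_Q4 ρ h3,
    mul_smul_comm, smul_smul, ← AddChar.map_add_eq_mul, smul_mul_assoc, smul_mul_assoc]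
  congr 2
  ring

theorem E6Q_idem (β γ ε : F) : Ek ρ 6 β * Q4 ρ γ 0 ε 0 * (Ek ρ 6 β * Q4 ρ γ 0 ε 0) =
    Ek ρ 6 β * Q4 ρ γ 0 ε 0 :=
  idem_mul (E_idem' ρ 6 β) (Q4_idem ρ h3 γ 0 ε 0) (E_commute (fun t => (X6_Q40 ρ h3 γ ε t).symm) β).symm

variable {ρ} (h : Good ρ)
include h

theorem A_ne : m4 ρ 0 1 0 1 ≠ 0 := by
  classical
  intro hA
  have hde : ∀ δ ε, δ ≠ 0 → ε ≠ 0 → Ek ρ 9 δ * (Ek ρ 10 ε * Ek ρ 11 0) = 0 := fun δ ε hδ hε =>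
    rk_zero_iff.1 (show n3 ρ δ ε 0 = 0 by rw [n3_de ρ h3 δ ε hδ hε, hA, mul_zero])
  have hgf : ∀ γ φ, γ ≠ 0 → φ ≠ 0 → Q4 ρ γ 0 0 φ = 0 := fun γ φ hγ hφ =>
    rk_zero_iff.1 (show m4 ρ γ 0 0 φ = 0 by rw [m4_gf ρ h3 0 hγ hφ, hA])
  have hcancel : ∀ (i : Fin 2) {A B : Module.End ℂ V}, ρ (nn i) * A = B * ρ (nn i) → B = 0 → A = 0 :=
    fun i A B e hB => by
      rw [hB, zero_mul] at e
      exact (u ρ (nn i)).mul_right_eq_zero.1 e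
  have hN : ∀ γ ε, γ ≠ 0 → Q4 ρ γ 0 ε 0 = 0 := by
    intro γ ε hγ
    set Z := Q4 ρ γ 0 ε 0 with hZ
    have hb : ∀ x, X ρ 6 x * Z = Z := (isRep ρ 6).eq_one_of fun β hβ => by
      show Ek ρ 6 β * Z = 0
      obtain ⟨a, ha, e6⟩ := nn_E ρ 0 (s := 6) (s' := 10) (by decide +kernel) (by norm_num)
      obtain ⟨b, hb, e8⟩ := nn_E ρ 0 (s := 8) (s' := 9) (by decide +kernel) (by norm_num)
      obtain ⟨c, -, e10⟩ := nn_E ρ 0 (s := 10) (s' := 6) (by decide +kernel) (by norm_num)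
      refine hcancel 0 (move_mul (e6 β) (move_mul (e8 γ) (move_mul
        (nn_E0 ρ 0 (s := 9) (s' := 8) (by decide +kernel) (by norm_num)) (move_mul (e10 ε)
          (nn_E0 ρ 0 (s := 11) (s' := 11) (by decide +kernel) (by norm_num)))))) ?_
      rw [(E_comm ρ (r := 6) (s := 11) (by decide) _ _).eq, ← mul_assoc (Ek ρ 8 0),
        (E_comm ρ (r := 8) (s := 11) (by decide) _ _).eq, ← mul_assoc, ← mul_assoc, ← mul_assoc,
        (E_comm ρ (r := 10) (s := 9) (by decide) _ _).eq, mul_assoc (Ek ρ 9 _) (Ek ρ 10 _),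
        hde _ _ (div_ne_zero hγ hb) (div_ne_zero hβ ha), zero_mul, zero_mul]
    by_contra hne
    obtain ⟨u₁, hu₁⟩ : ∃ u₁ : F, ε * u₁ ^ 3 - γ * u₁ ≠ 0 := by
      obtain ⟨t, ht⟩ := exists_pow_ne h (n := 2) (by norm_num) (by norm_num)
      by_contra hall
      push Not at hall
      have h1 := hall 1
      have h2 := hall t
      simp only [one_pow, mul_one, sub_eq_zero] at h1
      rw [h1] at h2
      have h4 : γ * (t : F) * ((t : F) ^ 2 - 1) = 0 := by linear_combination h2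
      rcases mul_eq_zero.1 h4 with h4 | h4
      · exact mul_ne_zero hγ t.ne_zero h4
      · exact ht (sub_eq_zero.1 h4)
    obtain ⟨t, ht⟩ := psi_ne hu₁
    refine ht (scalar_unique hne (b := 1) ?_)
    rw [one_smul]
    have e := shift_b ρ h3 γ ε u₁ 0
    have h0 : Ek ρ 6 0 * Z = Z := (isRep ρ 6).E_zero_mul hb
    rw [← hZ, h0, (X7_Q40 ρ h3 γ ε u₁).eq, zero_sub] at e
    have e' := (u ρ (xs 7 u₁)).mul_left_inj.1 e
    have e2 := congrArg (X ρ 6 t * ·) e'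
    rw [hb, ← mul_assoc, Ek, (isRep ρ 6).mul_E, smul_mul_assoc, ← Ek, ← e'] at e2
    have e3 := congrArg (psi F ((ε * u₁ ^ 3 - γ * u₁) * t) • ·) e2
    simp only [smul_smul, ← AddChar.map_add_eq_mul] at e3
    rw [show (ε * u₁ ^ 3 - γ * u₁) * t + -(ε * u₁ ^ 3 - γ * u₁) * t = 0 by ring,
      AddChar.map_zero_eq_one, one_smul] at e3
    exact e3
  have hB2 : m4 ρ 0 1 0 0 = 0 := by
    have e := mA_c ρ h3 (one_ne_zero (α := F))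
    rw [hA, mul_zero, zero_add, ← sum_e ρ h3] at e
    rw [← e]
    exact Finset.sum_eq_zero fun ε _ => rk_zero_iff.2 (hN 1 ε one_ne_zero)
  have hN0 : ∀ ε, ε ≠ 0 → Q4 ρ 0 0 ε 0 = 0 := by
    intro ε hε
    set Z := Q4 ρ 0 0 ε 0 with hZ
    have ha : ∀ x, X ρ 7 x * Z = Z := (isRep ρ 7).eq_one_of fun α hα => by
      show Ek ρ 7 α * Z = 0
      obtain ⟨a, ha, e7⟩ := nn_E ρ 1 (s := 7) (s' := 8) (by decide +kernel) (by norm_num)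
      obtain ⟨σ, τ, hσ, -, ee⟩ := nn1_EF ρ ε 0
      refine hcancel 1 (move_mul (e7 α) (move_mul (nn_E0 ρ 1 (s := 8) (s' := 7) (by decide +kernel) (by norm_num))
        (move_mul (nn_E0 ρ 1 (s := 9) (s' := 9) (by decide +kernel) (by norm_num)) ee))) ?_
      have hc : Commute (Ek ρ 7 0) (Ek ρ 9 0 * (Ek ρ 10 0 * Ek ρ 11 (ε / σ))) :=
        (E_commute (fun t => (X7_inner ρ h3 t 0 0 (ε / σ)).symm) 0).symm
      rw [zero_div, hc.eq, ← mul_assoc]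
      show Q4 ρ _ 0 0 _ * _ = 0
      rw [hgf _ _ (div_ne_zero hα ha) (div_ne_zero hε hσ), zero_mul]
    by_contra hne
    obtain ⟨u₁, hu₁⟩ := psi_ne (neg_ne_zero.2 hε)
    refine hu₁ (scalar_unique hne (b := 1) ?_)
    have e := shift_a ρ h3 0 ε u₁ 0 1
    rw [← hZ, ha, (X6_Q40 ρ h3 0 ε u₁).eq] at e
    have e' := (u ρ (xs 6 u₁)).mul_left_inj.1 e
    rw [one_smul]
    refine Eq.trans ?_ e'.symm
    congr 2
    ring
  have hB1 : m4 ρ 0 0 0 1 = 0 := by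
    have e := n3_e ρ h3 (one_ne_zero (α := F))
    rw [hA, mul_zero, zero_add, ← sum_c ρ h3] at e
    rw [← e]
    refine Finset.sum_eq_zero fun γ _ => rk_zero_iff.2 ?_
    by_cases hγ : γ = 0
    · rw [hγ]; exact hN0 1 one_ne_zero
    · exact hN γ 1 hγ
  have hz : ∀ t, X ρ 11 t * (1 : Module.End ℂ V) = 1 := (isRep ρ 11).eq_one_of fun φ hφ => by
    rw [mul_one]
    refine rk_zero_iff.1 ?_
    show rk (Ek ρ 11 φ) = 0
    rw [← sum_rk' ρ 10 (E_idem' ρ 11 φ) (fun t => XE_comm ρ (by decide) t φ)]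
    refine Finset.sum_eq_zero fun ε _ => ?_
    rw [← sum_d]
    refine Finset.sum_eq_zero fun δ _ => ?_
    by_cases hδ : δ = 0
    · rw [hδ, n3_f ρ h3 ε hφ, hA, hB1, mul_zero, add_zero]
    · rw [n3_df ρ h3 δ ε φ hδ hφ, hA, mul_zero]
  have h1 := hz 1
  rw [mul_one, X, ← map_one ρ] at h1
  have h2 := congrArg (fun g : Gr F => (g.1 : GL chevG2.Idx F).val) (h.inj h1)
  simp only [xs, Facts.coe_xg, Subgroup.coe_one, Units.val_one] at h2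
  exact one_ne_zero ((factsG2.x_eq_one 11 (by decide) (1 : F)).1 h2)

theorem no_mixed (hq : 9 ≤ q) (hA : m4 ρ 0 1 0 1 = 1) (hB : m4 ρ 0 1 0 0 ≤ 3) {γ ε : F} (hγ : γ ≠ 0)
    (hε : ε ≠ 0) : m4 ρ γ 0 ε 0 = 0 := by
  classical
  by_contra hne
  set im : Finset F := Finset.univ.image fun x : F => ε * x ^ 3 - γ * x with him
  have him3 : q ≤ 3 * im.card := by
    refine Finset.card_le_mul_card_image _ 3 fun b _ => ?_
    set p : Polynomial F := Polynomial.C ε * Polynomial.X ^ 3 + Polynomial.C 0 * Polynomial.X ^ 2 +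
      Polynomial.C (-γ) * Polynomial.X + Polynomial.C (-b) with hp
    have hdeg : p.natDegree = 3 := Polynomial.natDegree_cubic hε
    have hp0 : p ≠ 0 := fun e => by simp [e] at hdeg
    refine le_trans (Finset.card_le_card (t := p.roots.toFinset) fun x hx => ?_)
      ((Multiset.toFinset_card_le _).trans ((Polynomial.card_roots' p).trans hdeg.le))
    rw [Multiset.mem_toFinset, Polynomial.mem_roots hp0]
    simp only [Finset.mem_filter, Finset.mem_univ, true_and] at hx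
    simp [hp, Polynomial.IsRoot, ← hx]
    ring
  have hsq : q - 1 ≤ 2 * (Finset.univ.image fun x : Fˣ => (x : F) ^ 2).card := by
    rw [← Fintype.card_units]
    refine Finset.card_le_mul_card_image _ 2 fun b _ => ?_
    refine le_trans (le_of_eq (Finset.card_image_of_injective _ Units.val_injective).symm)
      (le_trans (Finset.card_le_card (t := Polynomial.nthRootsFinset 2 b) fun x hx => ?_) ?_)
    · obtain ⟨y, hy, rfl⟩ := Finset.mem_image.1 hx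
      simp only [Finset.mem_filter, Finset.mem_univ, true_and] at hy
      exact (Polynomial.mem_nthRootsFinset (by norm_num) b).2 hy
    · rw [Polynomial.nthRootsFinset_def]
      exact (Multiset.toFinset_card_le _).trans (Polynomial.card_nthRoots 2 b)
  have hbig : im.card ≤ m4 ρ γ 0 ε 0 := by
    have hsum := sum_rk' ρ 6 (Q4_idem ρ h3 γ 0 ε 0) (X6_Q40 ρ h3 γ ε)
    obtain ⟨β, hβ⟩ : ∃ β, rk (Ek ρ 6 β * Q4 ρ γ 0 ε 0) ≠ 0 := by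
      by_contra hall
      push Not at hall
      exact hne (show rk _ = 0 by rw [← hsum]; exact Finset.sum_eq_zero fun b _ => hall b)
    show _ ≤ rk _
    rw [← hsum, ← Finset.card_image_of_injective im (f := fun y => β - y) (sub_right_injective)]
    refine le_trans ?_ (Finset.sum_le_sum_of_subset (Finset.subset_univ (im.image fun y => β - y)))
    rw [Finset.card_eq_sum_ones]
    refine Finset.sum_le_sum fun b hb => ?_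
    simp only [him, Finset.image_image, Finset.mem_image, Finset.mem_univ, true_and, Function.comp] at hb
    obtain ⟨x, rfl⟩ := hb
    rw [← rk_move ρ (xs 7 x) (E6Q_idem ρ h3 β γ ε) (shift_b ρ h3 γ ε x β)]
    omega
  have hall : ∀ e ∈ (Finset.univ.image fun x : Fˣ => (x : F) ^ 2).image (fun s => ε * s),
      im.card ≤ m4 ρ γ 0 e 0 := by
    intro e he
    simp only [Finset.image_image, Finset.mem_image, Finset.mem_univ, true_and, Function.comp] at he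
    obtain ⟨x, rfl⟩ := he
    rw [show m4 ρ γ 0 (ε * (x : F) ^ 2) 0 = m4 ρ γ 0 ε 0 from by
      rw [tor4 ρ h3 x x γ 0 (ε * (x : F) ^ 2) 0]
      have e1 : ((wt x x 8 : Fˣ) : F) = 1 := by simp [wt]
      have e2 : ((wt x x 10 : Fˣ) : F) = (x : F) ^ 2 := by
        simp only [wt, ← zpow_add]; simp
      rw [e1, e2, div_one, zero_div, zero_div, mul_div_cancel_right₀ _ (pow_ne_zero 2 x.ne_zero)]]
    exact hbig
  have hle : ((Finset.univ.image fun x : Fˣ => (x : F) ^ 2).image fun s => ε * s).card * im.card ≤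
      mA ρ γ 0 0 := by
    rw [← sum_e ρ h3]
    refine le_trans ?_ (Finset.sum_le_sum_of_subset (Finset.subset_univ
      ((Finset.univ.image fun x : Fˣ => (x : F) ^ 2).image fun s => ε * s)))
    rw [← smul_eq_mul, ← Finset.sum_const]
    exact Finset.sum_le_sum hall
  rw [Finset.card_image_of_injective _ (mul_right_injective₀ hε), mA_c ρ h3 hγ, hA, mul_one] at hle
  set a := (Finset.univ.image fun x : Fˣ => (x : F) ^ 2).card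
  have h6 : (q - 1) * q ≤ 6 * (a * im.card) :=
    (Nat.mul_le_mul hsq him3).trans (le_of_eq (by ring))
  obtain ⟨Q, hQ⟩ : ∃ Q, q = Q + 9 := ⟨q - 9, by omega⟩
  rw [hQ, show Q + 9 - 1 = Q + 8 by omega] at h6 hle
  nlinarith

theorem sum_b_const (hA : m4 ρ 0 1 0 1 = 1) (hB : m4 ρ 0 0 0 1 ≤ 3) (hq : 9 ≤ q)
    (hmix : ∀ γ ε : F, γ ≠ 0 → ε ≠ 0 → m4 ρ γ 0 ε 0 = 0) :
    m4 ρ 0 0 0 1 = 1 ∧ ∀ ε, ε ≠ 0 → rk (Ek ρ 6 0 * Q4 ρ 0 0 ε 0) = 1 := by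
  classical
  have hcube : Function.Surjective fun x : F => x ^ 3 := by
    have : Fact (Nat.Prime 3) := ⟨by norm_num⟩
    have hdvd : ringChar F ∣ 3 := ringChar.dvd (by exact_mod_cast h3)
    have hr : ringChar F = 3 := ((Nat.dvd_prime (by norm_num)).1 hdvd).resolve_left CharP.ringChar_ne_one
    have hc : CharP F 3 := hr ▸ ringChar.charP F
    exact (bijective_frobenius F 3).2
  have key : ∀ ε, ε ≠ 0 → q - 1 + m4 ρ 0 0 0 1 = q * rk (Ek ρ 6 0 * Q4 ρ 0 0 ε 0) := by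
    intro ε hε
    have hall : ∀ β, rk (Ek ρ 6 β * Q4 ρ 0 0 ε 0) = rk (Ek ρ 6 0 * Q4 ρ 0 0 ε 0) := fun β => by
      obtain ⟨x, hx⟩ := hcube (β / ε)
      have hx' : x ^ 3 = β / ε := hx
      rw [rk_move ρ (xs 7 x) (E6Q_idem ρ h3 β 0 ε) (shift_b ρ h3 0 ε x β), hx', zero_mul, sub_zero,
        mul_div_cancel₀ _ hε, sub_self]
    have e : n3 ρ 0 ε 0 = m4 ρ 0 0 ε 0 := by
      rw [← sum_c ρ h3, Finset.sum_eq_single (0 : F) (fun γ _ hγ => hmix γ ε hγ hε)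
        (fun hn => absurd (Finset.mem_univ _) hn)]
    rw [n3_e ρ h3 hε, hA, mul_one] at e
    rw [e, show m4 ρ 0 0 ε 0 = rk (Q4 ρ 0 0 ε 0) from rfl,
      ← sum_rk' ρ 6 (Q4_idem ρ h3 0 0 ε 0) (X6_Q40 ρ h3 0 ε), Finset.sum_congr rfl fun β _ => hall β]
    simp
  have h1 := key 1 one_ne_zero
  set j := rk (Ek ρ 6 0 * Q4 ρ 0 0 1 0)
  have hj : j = 1 := by
    rcases Nat.lt_or_ge j 2 with hj | hj
    · rcases Nat.eq_zero_or_pos j with h0 | h0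
      · rw [h0, mul_zero] at h1; omega
      · omega
    · have : q * 2 ≤ q * j := Nat.mul_le_mul_left _ hj
      omega
  rw [hj, mul_one] at h1
  refine ⟨by omega, fun ε hε => Nat.eq_of_mul_eq_mul_left (show 0 < q by omega) ?_⟩
  rw [← key ε hε, mul_one]
  omega

theorem sum_a_const (hA : m4 ρ 0 1 0 1 = 1) (hB : m4 ρ 0 1 0 0 ≤ 3) (hq : 9 ≤ q)
    (hmix : ∀ γ ε : F, γ ≠ 0 → ε ≠ 0 → m4 ρ γ 0 ε 0 = 0) :
    m4 ρ 0 1 0 0 = 1 ∧ ∀ γ, γ ≠ 0 → rk (Ek ρ 7 0 * Q4 ρ γ 0 0 0) = 1 ∧ m4 ρ γ 0 0 0 = q := by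
  classical
  have key : ∀ γ, γ ≠ 0 → q - 1 + m4 ρ 0 1 0 0 = m4 ρ γ 0 0 0 ∧
      q - 1 + m4 ρ 0 1 0 0 = q * rk (Ek ρ 7 0 * Q4 ρ γ 0 0 0) := by
    intro γ hγ
    have hall : ∀ α, rk (Ek ρ 7 α * Q4 ρ γ 0 0 0) = rk (Ek ρ 7 0 * Q4 ρ γ 0 0 0) := fun α => by
      have hs := E_shift (g := X ρ 6 (α / γ)) (R := X ρ 7) (P := Q4 ρ γ 0 0 0) (c := α) (fun t => by
        rw [shift_a ρ h3 γ 0 (α / γ) 0 t]
        congr 3
        field_simp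
        ring) α
      rw [rk_move ρ (xs 6 (α / γ)) (idem_mul (E_idem' ρ 7 α) (Q4_idem ρ h3 γ 0 0 0)
        (E_commute (fun t => (X7_Q40 ρ h3 γ 0 t).symm) α).symm) hs, sub_self]
      rfl
    have e : mA ρ γ 0 0 = m4 ρ γ 0 0 0 := by
      rw [← sum_e ρ h3, Finset.sum_eq_single (0 : F) (fun ε _ hε => hmix γ ε hγ hε)
        (fun hn => absurd (Finset.mem_univ _) hn)]
    rw [mA_c ρ h3 hγ, hA, mul_one] at e
    refine ⟨e, ?_⟩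
    rw [e, show m4 ρ γ 0 0 0 = rk (Q4 ρ γ 0 0 0) from rfl,
      ← sum_rk' ρ 7 (Q4_idem ρ h3 γ 0 0 0) (X7_Q40 ρ h3 γ 0), Finset.sum_congr rfl fun α _ => hall α]
    simp
  have h1 := (key 1 one_ne_zero).2
  set j := rk (Ek ρ 7 0 * Q4 ρ 1 0 0 0)
  have hj : j = 1 := by
    rcases Nat.lt_or_ge j 2 with hj | hj
    · rcases Nat.eq_zero_or_pos j with h0 | h0
      · rw [h0, mul_zero] at h1; omega
      · omega
    · have : q * 2 ≤ q * j := Nat.mul_le_mul_left _ hj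
      omega
  rw [hj, mul_one] at h1
  refine ⟨by omega, fun γ hγ => ⟨Nat.eq_of_mul_eq_mul_left (show 0 < q by omega) ?_, ?_⟩⟩
  · rw [← (key γ hγ).2, mul_one]; omega
  · rw [← (key γ hγ).1]; omega

theorem rk_rest (hb : ∀ ε : F, ε ≠ 0 → rk (Ek ρ 6 0 * Q4 ρ 0 0 ε 0) = 1)
    (ha : ∀ γ : F, γ ≠ 0 → rk (Ek ρ 7 0 * Q4 ρ γ 0 0 0) = 1) :
    2 * (q - 1) ≤ m4 ρ 0 0 0 0 := by
  classical
  set Z := Q4 ρ 0 0 0 0 with hZ
  have hZ2 : Z * Z = Z := Q4_idem ρ h3 0 0 0 0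
  have c6 : ∀ t, Commute (X ρ 6 t) Z := X6_Q40 ρ h3 0 0
  have c7 : ∀ t, Commute (X ρ 7 t) Z := X7_Q40 ρ h3 0 0
  have hI6 : ∀ β, Ek ρ 6 β * Z * (Ek ρ 6 β * Z) = Ek ρ 6 β * Z := fun β => E6Q_idem ρ h3 β 0 0
  have hI7 : ∀ α, Ek ρ 7 α * Z * (Ek ρ 7 α * Z) = Ek ρ 7 α * Z := fun α =>
    idem_mul (E_idem' ρ 7 α) hZ2 (E_commute (fun t => (c7 t).symm) α).symm
  have h7 : ∀ α, α ≠ 0 → 1 ≤ rk (Ek ρ 7 α * Z) := by
    intro α hα
    obtain ⟨σ, hσ, e8⟩ := nn_E ρ 1 (s := 8) (s' := 7) (by decide +kernel) (by norm_num)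
    have hα' : σ * α ≠ 0 := mul_ne_zero hσ hα
    rw [← ha _ hα']
    refine le_of_eq (rk_move ρ (nn 1) (idem_mul (E_idem' ρ 7 0) (Q4_idem ρ h3 (σ * α) 0 0 0)
      (E_commute (fun t => (X7_Q40 ρ h3 (σ * α) 0 t).symm) 0).symm) ?_)
    rw [Q4]
    show ρ (nn 1) * (_ * (_ * (_ * PP ρ))) = _
    rw [move_mul (nn_E0 ρ 1 (s := 7) (s' := 8) (by decide +kernel) (by norm_num)) (move_mul (e8 (σ * α))
      (move_mul (nn_E0 ρ 1 (s := 9) (s' := 9) (by decide +kernel) (by norm_num)) (nn1_PP ρ))),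
      mul_div_cancel_left₀ _ hσ]
    congr 1
    have hc : Commute (Ek ρ 7 α) (Ek ρ 9 0 * (Ek ρ 10 0 * Ek ρ 11 0)) :=
      (E_commute (fun t => (X7_inner ρ h3 t 0 0 0).symm) α).symm
    have hc' : Commute (Ek ρ 7 α) Z := (E_commute (fun t => (c7 t).symm) α).symm
    show Ek ρ 8 0 * (Ek ρ 7 α * (Ek ρ 9 0 * (Ek ρ 10 0 * Ek ρ 11 0))) = Ek ρ 7 α * Z
    rw [hc.eq, ← mul_assoc, hc'.eq]
    rfl
  have h6 : ∀ β, β ≠ 0 → 1 ≤ rk (Ek ρ 6 β * Z) := by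
    intro β hβ
    obtain ⟨σ, hσ, e10⟩ := nn_E ρ 0 (s := 10) (s' := 6) (by decide +kernel) (by norm_num)
    have hβ' : σ * β ≠ 0 := mul_ne_zero hσ hβ
    rw [← hb _ hβ']
    refine le_of_eq (rk_move ρ (nn 0) (E6Q_idem ρ h3 0 0 (σ * β)) ?_)
    rw [Q4, move_mul (nn_E0 ρ 0 (s := 6) (s' := 10) (by decide +kernel) (by norm_num))
      (move_mul (nn_E0 ρ 0 (s := 8) (s' := 9) (by decide +kernel) (by norm_num))
        (move_mul (nn_E0 ρ 0 (s := 9) (s' := 8) (by decide +kernel) (by norm_num))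
          (move_mul (e10 (σ * β)) (nn_E0 ρ 0 (s := 11) (s' := 11) (by decide +kernel) (by norm_num))))),
      mul_div_cancel_left₀ _ hσ]
    congr 1
    rw [(E_comm ρ (r := 6) (s := 11) (by decide) β 0).eq]
    have hc : Commute (Ek ρ 6 β) Z := (E_commute (fun t => (c6 t).symm) β).symm
    rw [hc.eq, hZ, Q4]
    simp only [← mul_assoc]
    congr 2
    rw [mul_assoc (Ek ρ 10 0), ← (E8E9 ρ h3 0 0).eq, ← mul_assoc,
      (E_comm ρ (r := 10) (s := 8) (by decide) 0 0).eq, mul_assoc (Ek ρ 8 0),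
      (E_comm ρ (r := 10) (s := 9) (by decide) 0 0).eq, ← mul_assoc]
  set T : F → F → Module.End ℂ V := fun α β => Ek ρ 7 α * (Ek ρ 6 β * Z) with hT
  have c76 : ∀ u β, Commute (X ρ 7 u) (Ek ρ 6 β * Z) := fun u β => by
    have e := shift_b ρ h3 0 0 u β
    rw [zero_mul, zero_mul, sub_zero, sub_zero] at e
    exact e
  have hTi : ∀ α β, T α β * T α β = T α β := fun α β =>
    idem_mul (E_idem' ρ 7 α) (hI6 β) (E_commute (fun t => (c76 t β).symm) α).symm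
  have hrow : ∀ β, ∑ α, rk (T α β) = rk (Ek ρ 6 β * Z) := fun β => sum_rk' ρ 7 (hI6 β) (fun t => c76 t β)
  have hcol : ∀ α, ∑ β, rk (T α β) = rk (Ek ρ 7 α * Z) := fun α =>
    rk_sum _ (fun β _ => hTi α β) (hI7 α) (by
      rw [hT, ← Finset.mul_sum, ← Finset.sum_mul, show ∑ β : F, Ek ρ 6 β = 1 from (isRep ρ 6).sum_E, one_mul])
  have htot : m4 ρ 0 0 0 0 = ∑ β, ∑ α, rk (T α β) := by
    rw [Finset.sum_congr rfl fun β _ => hrow β]; exact (sum_rk' ρ 6 hZ2 c6).symm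
  rw [htot]
  by_cases hex : ∃ α β, α ≠ 0 ∧ β ≠ 0 ∧ rk (T α β) ≠ 0
  · obtain ⟨α, β, hα, hβ, hne⟩ := hex
    have hall : ∀ α' β', α' ≠ 0 → β' ≠ 0 → 1 ≤ rk (T α' β') := by
      intro α' β' hα' hβ'
      set r : Fˣ := Units.mk0 (α / α') (div_ne_zero hα hα')
      set s : Fˣ := Units.mk0 (β / β') (div_ne_zero hβ hβ')
      have w7 : ((wt (r ^ 2 * s) (r ^ 3 * s ^ 2) 7 : Fˣ) : F) = α / α' := by
        have : wt (r ^ 2 * s) (r ^ 3 * s ^ 2) 7 = r := by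
          show (r ^ 2 * s) ^ (2 : ℤ) * (r ^ 3 * s ^ 2) ^ (-1 : ℤ) = r
          rw [zpow_neg, zpow_one, mul_inv_eq_iff_eq_mul, zpow_two, pow_two, pow_three, pow_two]
          ac_rfl
        rw [this]; rfl
      have w6 : ((wt (r ^ 2 * s) (r ^ 3 * s ^ 2) 6 : Fˣ) : F) = β / β' := by
        have : wt (r ^ 2 * s) (r ^ 3 * s ^ 2) 6 = s := by
          show (r ^ 2 * s) ^ (-3 : ℤ) * (r ^ 3 * s ^ 2) ^ (2 : ℤ) = s
          rw [zpow_neg, inv_mul_eq_iff_eq_mul, zpow_two, show (3 : ℤ) = ((3 : ℕ) : ℤ) from rfl, zpow_natCast,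
            pow_two, pow_two, pow_three, pow_three]
          ac_rfl
        rw [this]; rfl
      have hm : rk (T α β) = rk (T α' β') := by
        refine rk_move ρ (tor (r ^ 2 * s) (r ^ 3 * s ^ 2)) (hTi α β) ?_
        rw [hT, hZ, Q4]
        show ρ (tor _ _) * (_ * (_ * (_ * (_ * PP ρ)))) = _
        rw [move_mul (tor_E ρ _ _ (by decide) α) (move_mul (tor_E ρ _ _ (by decide) β)
          (move_mul (tor_E0 ρ _ _ (by decide)) (move_mul (tor_E0 ρ _ _ (by decide)) (tor_PP ρ _ _)))),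
          w7, w6, div_div_cancel₀ hα, div_div_cancel₀ hβ]
        rfl
      omega
    calc 2 * (q - 1) ≤ (q - 1) * (q - 1) := Nat.mul_le_mul_right _ (by have := h.card; omega)
      _ = ∑ β ∈ Finset.univ.erase (0 : F), ∑ α ∈ Finset.univ.erase (0 : F), 1 := by simp
      _ ≤ ∑ β ∈ Finset.univ.erase (0 : F), ∑ α, rk (T α β) := Finset.sum_le_sum fun β hβ' =>
          (Finset.sum_le_sum fun α hα' => hall α β (Finset.ne_of_mem_erase hα')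
            (Finset.ne_of_mem_erase hβ')).trans (Finset.sum_le_sum_of_subset (Finset.subset_univ _))
      _ ≤ _ := Finset.sum_le_sum_of_subset (Finset.subset_univ _)
  · push Not at hex
    rw [← Finset.sum_erase_add _ _ (Finset.mem_univ (0 : F)), two_mul]
    refine Nat.add_le_add ?_ ?_
    · calc q - 1 = ∑ β ∈ Finset.univ.erase (0 : F), 1 := by simp
        _ ≤ _ := Finset.sum_le_sum fun β hβ => (h6 β (Finset.ne_of_mem_erase hβ)).trans (hrow β).ge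
    · calc q - 1 = ∑ α ∈ Finset.univ.erase (0 : F), 1 := by simp
        _ ≤ ∑ α ∈ Finset.univ.erase (0 : F), rk (T α 0) := Finset.sum_le_sum fun α hα => by
            refine (h7 α (Finset.ne_of_mem_erase hα)).trans (le_of_eq ?_)
            rw [← hcol, Finset.sum_eq_single (0 : F) (fun β _ hβ => hex α β (Finset.ne_of_mem_erase hα) hβ)
              (fun hn => absurd (Finset.mem_univ _) hn)]
        _ ≤ _ := Finset.sum_le_sum_of_subset (Finset.subset_univ _)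

theorem degree_three (hq : 9 ≤ q) : q ^ 4 + q ^ 2 ≤ finrank ℂ V + 2 := by
  classical
  have he := finrank_three ρ h3
  have hA0 := A_ne h3 h
  have hgeom : (q ^ 2 - 1) * (q ^ 2 - 1) + 2 * q ^ 2 = q ^ 4 + 1 := by
    obtain ⟨Q, hQ⟩ : ∃ Q, q ^ 2 = Q + 1 := ⟨q ^ 2 - 1, by have : 81 ≤ q ^ 2 := Nat.pow_le_pow_left hq 2; omega⟩
    rw [show q ^ 4 = q ^ 2 * q ^ 2 by ring, hQ, Nat.add_sub_cancel]; ring
  obtain ⟨Q, hQ⟩ : ∃ Q, q = Q + 9 := ⟨q - 9, by omega⟩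
  rw [hQ, show Q + 9 - 1 = Q + 8 by omega] at he
  rw [hQ]
  by_cases hA2 : 2 ≤ m4 ρ 0 1 0 1
  · set A := m4 ρ 0 1 0 1
    calc (Q + 9) ^ 4 + (Q + 9) ^ 2 ≤ 2 * ((Q + 8) * (Q + 10)) ^ 2 := by ring_nf; nlinarith
      _ ≤ A * ((Q + 8) * (Q + 10)) ^ 2 := Nat.mul_le_mul_right _ hA2
      _ ≤ finrank ℂ V + 2 := by rw [he]; ring_nf; omega
  have hA : m4 ρ 0 1 0 1 = 1 := by omega
  rw [hA] at he
  by_cases hB : 4 ≤ m4 ρ 0 0 0 1
  · rw [he]; ring_nf; nlinarith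
  by_cases hB' : 4 ≤ m4 ρ 0 1 0 0
  · rw [he]; ring_nf; nlinarith
  have hmix : ∀ γ ε : F, γ ≠ 0 → ε ≠ 0 → m4 ρ γ 0 ε 0 = 0 := fun γ ε => no_mixed h3 h hq hA (by omega)
  obtain ⟨hb1, hb⟩ := sum_b_const h3 h hA (by omega) hq hmix
  obtain ⟨ha1, ha⟩ := sum_a_const h3 h hA (by omega) hq hmix
  have hr := rk_rest h3 h hb fun γ hγ => (ha γ hγ).1
  have hn : n3 ρ 0 0 0 = (Q + 8) * (Q + 9) + m4 ρ 0 0 0 0 := by
    rw [← sum_c ρ h3, ← Finset.sum_erase_add _ _ (Finset.mem_univ (0 : F)),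
      Finset.sum_congr rfl fun γ hγ => (ha γ (Finset.ne_of_mem_erase hγ)).2]
    simp [hQ]
  rw [hn, hb1, ha1] at he
  rw [hQ, show Q + 9 - 1 = Q + 8 by omega] at hr
  rw [he]
  ring_nf
  ring_nf at hr
  omega

end Cfsg.Agent.Small.GTwoDegree
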